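import Cfsg.Agent.Lib.Recog.EPPOSeven.Context
import Cfsg.Agent.S1224

/-!
A strongly embedded subgroup: the action on its cosets, and the insoluble possibility.
-/

set_option autoImplicit false

namespace CfsgLib.Recog.EPPOSeven

open Subgroup MulAction

universe u

variable {G : Type u} [Group G]

theorem smul_base_iff {K : Subgroup G} {g : G} :
    g • (QuotientGroup.mk 1 : G ⧸ K) = QuotientGroup.mk 1 ↔ g ∈ K := by
  rw [MulAction.Quotient.smul_mk, smul_eq_mul, mul_one, QuotientGroup.eq, mul_one, inv_mem_iff]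

/-- The subgroup of `K` fixing the coset `β`. -/
def twoPoint (K : Subgroup G) (β : G ⧸ K) : Subgroup G := K ⊓ MulAction.stabilizer G β

theorem mem_twoPoint {K : Subgroup G} {β : G ⧸ K} {g : G} :
    g ∈ twoPoint K β ↔ g • (QuotientGroup.mk 1 : G ⧸ K) = QuotientGroup.mk 1 ∧ g • β = β := by
  rw [smul_base_iff]; exact Iff.rfl

variable [Finite G]

theorem odd_twoPoint {K : Subgroup G} (hK : Cfsg.IsStronglyEmbedded K) {β : G ⧸ K}
    (hβ : β ≠ QuotientGroup.mk 1) : Odd (Nat.card (twoPoint K β)) := by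
  obtain ⟨b, rfl⟩ := QuotientGroup.mk_surjective β
  have hb : b ∉ K := fun e => hβ (by rw [QuotientGroup.eq, mul_one, inv_mem_iff]; exact e)
  refine (hK.2.2 b hb).of_dvd_nat (Subgroup.card_dvd_of_le ?_)
  rintro d ⟨hdK, hd⟩
  refine ⟨hdK, b⁻¹ * d * b, ?_, by simp [mul_assoc]⟩
  have hd' : d • (QuotientGroup.mk b : G ⧸ K) = QuotientGroup.mk b := hd
  rw [MulAction.Quotient.smul_mk, smul_eq_mul, eq_comm, QuotientGroup.eq, ← mul_assoc] at hd'
  exact hd'

/-- An involution interchanging the base coset and `β` normalises the two point stabiliser. -/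
theorem swap_mem_normalizer {K : Subgroup G} {β : G ⧸ K} {u : G} (hu : orderOf u = 2)
    (huβ : u • (QuotientGroup.mk 1 : G ⧸ K) = β) :
    u ∈ Subgroup.normalizer (twoPoint K β : Set G) := by
  have hback : u • β = QuotientGroup.mk 1 := by rw [← huβ, ← mul_smul, invol_sq hu, one_smul]
  refine Subgroup.mem_normalizer_fintype fun d hd => ?_
  rw [SetLike.mem_coe, mem_twoPoint] at hd
  rw [SetLike.mem_coe, mem_twoPoint, invol_inv hu, mul_smul, mul_smul, mul_smul, mul_smul, huβ,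
    hd.2, hback, hd.1, huβ]
  exact ⟨rfl, rfl⟩

/-- The involutions interchanging the base coset and `β` inject into the two point stabiliser. -/
theorem card_invol_le_twoPoint {K : Subgroup G} (hK : Cfsg.IsStronglyEmbedded K) {β : G ⧸ K}
    (hβ : β ≠ QuotientGroup.mk 1) :
    Nat.card {t : G // orderOf t = 2 ∧ t ∈ K} ≤ Nat.card (twoPoint K β) := by
  rw [← Cfsg.Agent.S1224.result K hK (QuotientGroup.mk 1) β (Ne.symm hβ)]
  rcases isEmpty_or_nonempty {i : G // orderOf i = 2 ∧ i • (QuotientGroup.mk 1 : G ⧸ K) = β} with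
    he | ⟨⟨u₀, hu₀, hu₀β⟩⟩
  · rw [Nat.card_of_isEmpty]; exact Nat.zero_le _
  have hback : ∀ {w : G}, orderOf w = 2 → w • (QuotientGroup.mk 1 : G ⧸ K) = β →
      w • β = QuotientGroup.mk 1 := fun {w} hw hwβ => by
    rw [← hwβ, ← mul_smul, invol_sq hw, one_smul]
  refine Nat.card_le_card_of_injective (fun w => ⟨u₀ * w.1, mem_twoPoint.2 ⟨?_, ?_⟩⟩) ?_
  · rw [mul_smul, w.2.2, hback hu₀ hu₀β]
  · rw [mul_smul, hback w.2.1 w.2.2, hu₀β]
  · intro w w' e
    exact Subtype.ext (mul_left_cancel (congrArg Subtype.val e))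

namespace Ctx

/-- The insoluble possibility for a strongly embedded subgroup does not occur. -/
theorem se_solvable (h : Ctx G) {K : Subgroup G} (hK : Cfsg.IsStronglyEmbedded K) :
    Group.IsSolvable K := by
  by_contra hns
  have : Fact (Nat.Prime 2) := ⟨Nat.prime_two⟩
  obtain ⟨hs, hc⟩ := h.ih K hK.1 hns
  obtain ⟨t, ht⟩ := exists_prime_orderOf_dvd_card' (G := K) 2 (even_iff_two_dvd.1 hK.2.1)
  have h21 : 21 ≤ Nat.card {t : G // orderOf t = 2 ∧ t ∈ K} :=
    (twentyone_le_invol (h.spec.subgroup K) hc ht).trans_eq (Nat.card_congr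
      { toFun := fun v => ⟨(v.1 : G), by rw [Subgroup.orderOf_coe]; exact v.2, v.1.2⟩
        invFun := fun v => ⟨⟨v.1, v.2.2⟩, by rw [← Subgroup.orderOf_coe]; exact v.2.1⟩
        left_inv := fun v => rfl
        right_inv := fun v => rfl })
  obtain ⟨b, hb⟩ : ∃ b : G, b ∉ K := by
    by_contra hcon
    push Not at hcon
    exact hK.1 (eq_top_iff.2 fun g _ => hcon g)
  set β : G ⧸ K := QuotientGroup.mk b
  have hβ : β ≠ QuotientGroup.mk 1 := fun e => hb (by
    rwa [QuotientGroup.eq, mul_one, inv_mem_iff] at e)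
  set D := twoPoint K β
  have hD : 21 ≤ Nat.card D := h21.trans (card_invol_le_twoPoint hK hβ)
  have hodd := odd_twoPoint hK hβ
  have hd : Nat.card D ∣ 21 := by
    refine Nat.Coprime.dvd_of_dvd_mul_left (n := 21) (m := 8) ?_ ?_
    · exact (Nat.coprime_two_right.2 hodd).pow_right 3
    · have := Subgroup.card_dvd_of_le (inf_le_left : D ≤ K)
      rwa [hc] at this
  have hD21 : Nat.card D = 21 := le_antisymm (Nat.le_of_dvd (by norm_num) hd) hD
  obtain ⟨u₀, hu₀, hu₀β⟩ : ∃ i : G, orderOf i = 2 ∧ i • (QuotientGroup.mk 1 : G ⧸ K) = β := by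
    have hpos : 0 < Nat.card {i : G // orderOf i = 2 ∧ i • (QuotientGroup.mk 1 : G ⧸ K) = β} := by
      rw [Cfsg.Agent.S1224.result K hK _ _ (Ne.symm hβ)]; omega
    obtain ⟨⟨i, hi⟩⟩ := (Nat.card_pos_iff.1 hpos).1
    exact ⟨i, hi⟩
  have hcomm := h.spec.comm_of_normalized hu₀ hodd (swap_mem_normalizer hu₀ hu₀β)
  have : Fact (Nat.Prime 3) := ⟨Nat.prime_three⟩
  have : Fact (Nat.Prime 7) := ⟨by norm_num⟩
  obtain ⟨⟨a, ha⟩, ha3⟩ := exists_prime_orderOf_dvd_card' (G := D) 3 (by rw [hD21]; norm_num)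
  obtain ⟨⟨c, hc'⟩, hc7⟩ := exists_prime_orderOf_dvd_card' (G := D) 7 (by rw [hD21]; norm_num)
  rw [Subgroup.orderOf_mk] at ha3 hc7
  have := h.spec.eq_one_of_commute (hcomm a ha c hc')
    (fun e => by rw [e, orderOf_one] at ha3; omega) (by rw [ha3, hc7]; norm_num)
  rw [this, orderOf_one] at hc7
  omega

end Ctx

end CfsgLib.Recog.EPPOSeven
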