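import Cfsg.Agent.Lib.Recog.EPPOSeven.Zassenhaus

/-!
The subgroups given by the Brauer–Suzuki–Wall theorem make the group a Zassenhaus group.
-/

set_option autoImplicit false

namespace CfsgLib.Recog.EPPOSeven

open Subgroup MulAction
open scoped Pointwise

universe u

namespace Ctx

variable {G : Type u} [Group G] [Finite G]

theorem card_of_bsw (h : Ctx G) (hbig : 12 < Nat.card G) {Q D : Subgroup G}
    (hcard : 2 * Nat.card G = Nat.card Q * (Nat.card Q + 1) * (Nat.card Q - 1))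
    (hCQ : ∀ x ∈ Q, x ≠ 1 → Subgroup.centralizer ({x} : Set G) = Q)
    (hD : 2 * Nat.card D + 1 = Nat.card Q) (hQD : Q ⊓ D = ⊥)
    (hN : Subgroup.normalizer (Q : Set G) = Q ⊔ D)
    (hX : ∀ X : Subgroup G, X ≤ D → X ≠ ⊥ →
      Subgroup.normalizer (X : Set G) = Subgroup.normalizer (D : Set G) ∧
        ∃ u : G, orderOf u = 2 ∧ u ∉ D ∧ (∀ d ∈ D, u * d * u⁻¹ = d⁻¹) ∧
          Subgroup.normalizer (D : Set G) = D ⊔ Subgroup.zpowers u) : Nat.card G = 168 := by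
  classical
  set B := Subgroup.normalizer (Q : Set G) with hB
  set q := Nat.card Q
  set d := Nat.card D
  have hd2 : 2 ≤ d := by
    by_contra hc
    have hd1 : d = 1 := by have := Nat.card_pos (α := D); omega
    have hq : q = 3 := by omega
    rw [hq] at hcard
    omega
  have hD1 : D ≠ ⊥ := (Subgroup.one_lt_card_iff_ne_bot D).1 hd2
  have hQB : Q ≤ B := Subgroup.le_normalizer
  have hDB : D ≤ B := hN ▸ le_sup_right
  have hnorm : ∀ g ∈ B, ∀ x ∈ Q, g * x * g⁻¹ ∈ Q := fun g hg x hx =>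
    (Subgroup.mem_normalizer_iff.1 hg x).1 hx
  have hnorm' : ∀ g ∈ B, ∀ x ∈ Q, g⁻¹ * x * g ∈ Q := fun g hg x hx => by
    have := hnorm _ (inv_mem hg) x hx
    rwa [inv_inv] at this
  have hbot : ∀ g, g ∈ Q → g ∈ D → g = 1 := fun g h1 h2 => by
    rw [← Subgroup.mem_bot, ← hQD]; exact ⟨h1, h2⟩
  have hdec : ∀ b ∈ B, ∃ δ ∈ D, ∃ x ∈ Q, b = δ * x := by
    intro b hb
    rw [hN, sup_comm, ← SetLike.mem_coe,
      Subgroup.coe_mul_of_left_le_normalizer_right D Q hDB] at hb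
    obtain ⟨δ, hδ, x, hx, rfl⟩ := hb
    exact ⟨δ, hδ, x, hx, rfl⟩
  have hBc : Nat.card B = d * q := by
    rw [← Nat.card_prod]
    refine (Nat.card_eq_of_bijective (fun v : D × Q => (⟨v.1.1 * v.2.1,
      mul_mem (hDB v.1.2) (hQB v.2.2)⟩ : B)) ⟨?_, ?_⟩).symm
    · rintro ⟨δ, x⟩ ⟨δ', x'⟩ e
      have e' : (δ : G) * x = δ' * x' := congrArg Subtype.val e
      have h1 : (δ' : G)⁻¹ * δ = x' * (x : G)⁻¹ := by
        calc (δ' : G)⁻¹ * δ = (δ' : G)⁻¹ * (δ * x) * (x : G)⁻¹ := by group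
          _ = (δ' : G)⁻¹ * (δ' * x') * (x : G)⁻¹ := by rw [e']
          _ = x' * (x : G)⁻¹ := by group
      have h2 := hbot _ (h1 ▸ mul_mem x'.2 (inv_mem x.2)) (mul_mem (inv_mem δ'.2) δ.2)
      have hδ : δ = δ' := Subtype.ext (inv_mul_eq_one.1 h2).symm
      subst hδ
      exact Prod.ext rfl (Subtype.ext (mul_left_cancel e'))
    · rintro ⟨b, hb⟩
      obtain ⟨δ, hδ, x, hx, rfl⟩ := hdec b hb
      exact ⟨(⟨δ, hδ⟩, ⟨x, hx⟩), rfl⟩
  have hBtop : B ≠ ⊤ := by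
    intro e
    rw [e, Subgroup.card_top] at hBc
    rw [hBc] at hcard
    have : q * (q + 1) * (q - 1) = 2 * d * (q * (q + 1)) := by
      rw [show q - 1 = 2 * d by omega]; ring
    rw [this] at hcard
    nlinarith
  set α : G ⧸ B := QuotientGroup.mk 1 with hα
  have hcomp : Nat.card {β : G ⧸ B // β ≠ α} = q := by
    have := Fintype.ofFinite (G ⧸ B)
    have hidx : Nat.card (G ⧸ B) = q + 1 := by
      have h1 := Subgroup.card_mul_index B
      rw [hBc, Subgroup.index_eq_card] at h1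
      rw [← h1, show q - 1 = 2 * d by omega] at hcard
      have : 2 * (d * q) * Nat.card (G ⧸ B) = 2 * (d * q) * (q + 1) := by linarith [hcard]
      exact Nat.eq_of_mul_eq_mul_left (Nat.mul_pos two_pos (Nat.mul_pos (by omega) (by omega))) this
    rw [Nat.card_eq_fintype_card] at hidx ⊢
    rw [Fintype.card_subtype_compl, Fintype.card_subtype_eq, hidx, Nat.add_sub_cancel]
  -- `Q` is semiregular away from the base point
  have hsemi : ∀ x ∈ Q, x ≠ 1 → ∀ γ : G ⧸ B, x • γ = γ → γ = α := by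
    intro x hx hx1 γ hγ
    obtain ⟨g, rfl⟩ := QuotientGroup.mk_surjective γ
    rw [MulAction.Quotient.smul_mk, smul_eq_mul, eq_comm, QuotientGroup.eq, ← mul_assoc] at hγ
    obtain ⟨δ, hδ, x₀, hx₀, hdx⟩ := hdec _ hγ
    have hpow : ∀ n : ℕ, (δ⁻¹) ^ n * (δ * x₀) ^ n ∈ Q := by
      intro n
      induction n with
      | zero => simp
      | succ n ih =>
        rw [pow_succ', pow_succ,
          show δ⁻¹ * δ⁻¹ ^ n * ((δ * x₀) ^ n * (δ * x₀)) =
            (δ⁻¹ * (δ⁻¹ ^ n * (δ * x₀) ^ n) * δ) * x₀ by group]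
        exact mul_mem (hnorm' δ (hDB hδ) _ ih) hx₀
    have hq1 : (δ * x₀) ^ q = 1 := by
      rw [← hdx, show g⁻¹ * x * g = g⁻¹ * x * (g⁻¹)⁻¹ by rw [inv_inv], conj_pow]
      have : x ^ q = 1 := by
        have := pow_card_eq_one' (x := (⟨x, hx⟩ : Q))
        exact congrArg Subtype.val this
      rw [this, mul_one, mul_inv_cancel]
    have hδq : δ ^ q = 1 := by
      have h2 := hpow q
      rw [hq1, mul_one, inv_pow, inv_mem_iff] at h2
      exact hbot _ h2 (pow_mem hδ _)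
    have hδd : δ ^ d = 1 := congrArg Subtype.val (pow_card_eq_one' (x := (⟨δ, hδ⟩ : D)))
    have hδ1 : δ = 1 := by
      rw [← pow_one δ, show 1 = q - 2 * d by omega]
      rw [pow_sub _ (by omega), hδq, mul_comm 2 d, pow_mul, hδd, one_pow, inv_one, mul_one]
    rw [hδ1, one_mul] at hdx
    have hy : g⁻¹ * x * g ∈ Q := hdx ▸ hx₀
    have hy1 : g⁻¹ * x * g ≠ 1 := fun e => hx1 (by
      have : x = g * (g⁻¹ * x * g) * g⁻¹ := by group
      rw [this, e]; group)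
    have hg : g ∈ B := by
      refine Subgroup.mem_normalizer_fintype fun v hv => ?_
      rw [SetLike.mem_coe] at hv ⊢
      rw [← hCQ x hx hx1]
      refine mem_centralizer_of_commute ?_
      have hc : v * (g⁻¹ * x * g) = g⁻¹ * x * g * v := Subgroup.mem_centralizer_singleton_iff.1
        ((hCQ _ hy hy1).symm ▸ hv : v ∈ Subgroup.centralizer ({g⁻¹ * x * g} : Set G))
      show g * v * g⁻¹ * x = x * (g * v * g⁻¹)
      calc g * v * g⁻¹ * x = g * (v * (g⁻¹ * x * g)) * g⁻¹ := by group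
        _ = g * (g⁻¹ * x * g * v) * g⁻¹ := by rw [hc]
        _ = x * (g * v * g⁻¹) := by group
    rw [hα, QuotientGroup.eq, mul_one, inv_mem_iff]
    exact hg
  have hcommQ : ∀ y ∈ Q, y ≠ 1 → ∀ δ ∈ D, Commute δ y → δ = 1 := fun y hy hy1 δ hδ hc =>
    hbot δ (hCQ y hy hy1 ▸ mem_centralizer_of_commute hc) hδ
  obtain ⟨-, u, hu, huD, huinv, -⟩ := hX D le_rfl hD1
  have huB : u ∉ B := by
    intro hub
    obtain ⟨δ, hδ, x₀, hx₀, hux⟩ := hdec u hub
    by_cases hx01 : x₀ = 1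
    · exact huD (by rw [hux, hx01, mul_one]; exact hδ)
    refine hD1 ((Subgroup.eq_bot_iff_forall D).2 fun δ' hδ' => hcommQ x₀ hx₀ hx01 δ' hδ' ?_)
    have hux' : x₀ = δ⁻¹ * u := by rw [hux, inv_mul_cancel_left]
    have h1 : x₀ * δ' * x₀⁻¹ ∈ D := by
      rw [hux', show δ⁻¹ * u * δ' * (δ⁻¹ * u)⁻¹ = δ⁻¹ * (u * δ' * u⁻¹) * δ by group, huinv δ' hδ']
      exact mul_mem (mul_mem (inv_mem hδ) (inv_mem hδ')) hδ
    have h2 : x₀ * δ' * x₀⁻¹ * δ'⁻¹ ∈ Q := by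
      rw [show x₀ * δ' * x₀⁻¹ * δ'⁻¹ = x₀ * (δ' * x₀⁻¹ * δ'⁻¹) by group]
      exact mul_mem hx₀ (hnorm _ (hDB hδ') _ (inv_mem hx₀))
    have h3 := hbot _ h2 (mul_mem h1 (inv_mem hδ'))
    exact (mul_inv_eq_iff_eq_mul.1 (mul_inv_eq_one.1 h3)).symm
  set β₀ : G ⧸ B := u • α with hβdef
  have hβ₀ : β₀ ≠ α := fun e => huB (smul_base_iff.1 e)
  have hDfix : ∀ δ ∈ D, δ • β₀ = β₀ := by
    intro δ hδ
    rw [hβdef, ← mul_smul, show δ * u = u * (u⁻¹ * δ * u) by group, mul_smul]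
    congr 1
    refine smul_base_iff.2 (hDB ?_)
    have e : u⁻¹ * δ * u = δ⁻¹ := by
      rw [invol_inv hu]
      have := huinv δ hδ
      rwa [invol_inv hu] at this
    rw [e]; exact inv_mem hδ
  have hstab : ∀ g ∈ B, g • β₀ = β₀ → g ∈ D := by
    intro g hg hgβ
    obtain ⟨δ, hδ, x₀, hx₀, rfl⟩ := hdec g hg
    by_cases hx01 : x₀ = 1
    · rwa [hx01, mul_one]
    refine absurd (hsemi x₀ hx₀ hx01 β₀ ?_) hβ₀
    have h2 : δ⁻¹ • β₀ = β₀ := hDfix _ (inv_mem hδ)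
    rw [mul_smul] at hgβ
    calc x₀ • β₀ = δ⁻¹ • δ • x₀ • β₀ := (inv_smul_smul _ _).symm
      _ = β₀ := by rw [hgβ, h2]
  have hreach : ∀ β : G ⧸ B, β ≠ α → ∃ y ∈ Q, y • β₀ = β := by
    intro β hβ
    let f : Q → {β : G ⧸ B // β ≠ α} := fun y => ⟨y.1 • β₀, fun e => hβ₀ (by
      have hy : y.1 • α = α := smul_base_iff.2 (hQB y.2)
      exact MulAction.injective y.1 (e.trans hy.symm))⟩
    have hf : Function.Injective f := by
      intro y y' e
      have e' : y.1 • β₀ = y'.1 • β₀ := congrArg Subtype.val e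
      by_contra hne
      refine hβ₀ (hsemi (y'.1⁻¹ * y.1) (mul_mem (inv_mem y'.2) y.2) (fun h1 => hne
        (Subtype.ext (inv_mul_eq_one.1 h1).symm)) β₀ ?_)
      rw [mul_smul, e', inv_smul_smul]
    obtain ⟨y, hy⟩ := (Function.Injective.bijective_of_nat_card_le hf hcomp.le).2 ⟨β, hβ⟩
    exact ⟨y, y.2, congrArg Subtype.val hy⟩
  obtain ⟨δ₀, hδ₀, hδ₀1⟩ := (Subgroup.ne_bot_iff_exists_ne_one.1 hD1) |>.elim
    fun w hw => (⟨w.1, w.2, fun e => hw (Subtype.ext e)⟩ : ∃ w : G, w ∈ D ∧ w ≠ 1)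
  refine h.card_of_zassenhaus hBtop hβ₀ (fun β hβ => ?_) (fun g hgB hgβ hg1 γ hgγ => ?_)
    ⟨δ₀, hDB hδ₀, hδ₀1, hDfix _ hδ₀⟩
  · obtain ⟨y, hy, hyβ⟩ := hreach β hβ
    exact ⟨y, hQB hy, hyβ⟩
  · by_cases hγ : γ = α
    · exact Or.inl hγ
    refine Or.inr ?_
    have hgD := hstab g hgB hgβ
    obtain ⟨y, hy, rfl⟩ := hreach γ hγ
    by_cases hy1 : y = 1
    · rw [hy1, one_smul]
    exfalso
    refine hg1 (hcommQ y hy hy1 g hgD ?_)
    have h1 : y⁻¹ * g * y ∈ D := hstab _ (mul_mem (mul_mem (inv_mem (hQB hy)) hgB) (hQB hy)) (by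
      rw [mul_smul, mul_smul, hgγ, inv_smul_smul])
    have h2 : g⁻¹ * (y⁻¹ * g * y) ∈ Q := by
      rw [show g⁻¹ * (y⁻¹ * g * y) = (g⁻¹ * y⁻¹ * g) * y by group]
      exact mul_mem (hnorm' _ hgB _ (inv_mem hy)) hy
    have h3 : g = y⁻¹ * g * y := inv_mul_eq_one.1 (hbot _ h2 (mul_mem (inv_mem hgD) h1))
    show g * y = y * g
    conv_rhs => rw [h3]
    group

end Ctx

end CfsgLib.Recog.EPPOSeven
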