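import Mathlib
import Cfsg.Prelude.Def_Solvable
import Cfsg.Agent.Lib.Solvable.FixedPointFree
import Cfsg.Agent.Lib.StructB.InvertedOdd
import Cfsg.Agent.Lib.Invol.BrauerSuzuki
import Cfsg.Agent.S1475

/-!
Finite groups in which every non-identity element has order a power of two or a prime other than
five: elementary facts.
-/

set_option autoImplicit false

namespace CfsgLib.Recog.EPPOSeven

open Subgroup

universe u

/-- Every element order is a power of two or a prime other than five. -/
def Spec (G : Type*) [Group G] : Prop :=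
  ∀ g : G, g ≠ 1 → (∃ k : ℕ, orderOf g = 2 ^ k) ∨ ((orderOf g).Prime ∧ orderOf g ≠ 5)

theorem invol_sq {G : Type*} [Group G] {a : G} (h : orderOf a = 2) : a * a = 1 := by
  rw [← pow_two, ← h, pow_orderOf_eq_one]

theorem invol_inv {G : Type*} [Group G] {a : G} (h : orderOf a = 2) : a⁻¹ = a :=
  inv_eq_of_mul_eq_one_left (invol_sq h)

theorem invol_ne_one {G : Type*} [Group G] {a : G} (h : orderOf a = 2) : a ≠ 1 := fun e => by
  rw [e, orderOf_one] at h
  omega

variable {G : Type u} [Group G]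

theorem Spec.of_injective {H : Type*} [Group H] (hG : Spec G) (f : H →* G)
    (hf : Function.Injective f) : Spec H := fun h hh => by
  have := hG (f h) ((map_ne_one_iff f hf).2 hh)
  rwa [orderOf_injective f hf] at this

theorem Spec.subgroup (hG : Spec G) (H : Subgroup G) : Spec H :=
  hG.of_injective H.subtype H.subtype_injective

theorem Spec.of_surjective {H : Type*} [Group H] (hG : Spec G) (f : G →* H)
    (hf : Function.Surjective f) : Spec H := fun h hh => by
  obtain ⟨g, rfl⟩ := hf h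
  have hd := orderOf_map_dvd f g
  rcases hG g (fun e => hh (by rw [e, map_one])) with ⟨k, hk⟩ | ⟨hp, h5⟩
  · rw [hk] at hd
    obtain ⟨i, -, hi⟩ := (Nat.dvd_prime_pow Nat.prime_two).1 hd
    exact Or.inl ⟨i, hi⟩
  · rcases (Nat.dvd_prime hp).1 hd with e | e
    · exact absurd (orderOf_eq_one_iff.1 e) hh
    · rw [e]; exact Or.inr ⟨hp, h5⟩

theorem Spec.quotient (hG : Spec G) (N : Subgroup G) [N.Normal] : Spec (G ⧸ N) :=
  hG.of_surjective (QuotientGroup.mk' N) (QuotientGroup.mk'_surjective N)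

theorem Spec.primePow (hG : Spec G) (g : G) : IsPrimePow (orderOf g) ∨ g = 1 := by
  by_cases h : g = 1
  · exact Or.inr h
  refine Or.inl ?_
  rcases hG g h with ⟨k, hk⟩ | ⟨hp, -⟩
  · rw [hk]
    refine Nat.prime_two.isPrimePow.pow ?_
    rintro rfl
    exact h (orderOf_eq_one_iff.1 (by rw [hk, pow_zero]))
  · exact hp.isPrimePow

/-- An order divisible by an odd prime is that prime. -/
theorem Spec.orderOf_eq (hG : Spec G) {g : G} {p : ℕ} (hp : p.Prime) (hp2 : p ≠ 2)
    (hd : p ∣ orderOf g) : orderOf g = p := by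
  by_cases h : g = 1
  · rw [h, orderOf_one] at hd
    exact absurd (Nat.le_of_dvd one_pos hd) (by have := hp.two_le; omega)
  rcases hG g h with ⟨k, hk⟩ | ⟨hq, -⟩
  · rw [hk] at hd
    exact absurd ((Nat.prime_dvd_prime_iff_eq hp Nat.prime_two).1 (hp.dvd_of_dvd_pow hd)) hp2
  · exact ((Nat.prime_dvd_prime_iff_eq hp hq).1 hd).symm

/-- An element whose order is even has order a power of two. -/
theorem Spec.orderOf_two_pow (hG : Spec G) {g : G} (hd : 2 ∣ orderOf g) :
    ∃ k, orderOf g = 2 ^ k := by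
  by_cases h : g = 1
  · exact ⟨0, by simp [h]⟩
  rcases hG g h with hk | ⟨hq, -⟩
  · exact hk
  · exact ⟨1, by rw [pow_one]; exact ((Nat.prime_dvd_prime_iff_eq Nat.prime_two hq).1 hd).symm⟩

theorem Spec.not_five (hG : Spec G) [Finite G] : ¬ 5 ∣ Nat.card G := by
  intro hd
  have : Fact (Nat.Prime 5) := ⟨by norm_num⟩
  obtain ⟨g, hg⟩ := exists_prime_orderOf_dvd_card' 5 hd
  have hg1 : g ≠ 1 := fun e => by rw [e, orderOf_one] at hg; omega
  rcases hG g hg1 with ⟨k, hk⟩ | ⟨-, h5⟩
  · rw [hg] at hk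
    have h2 : 2 ∣ 5 ∨ k = 0 := by
      rcases k with _ | k
      · exact Or.inr rfl
      · exact Or.inl (hk ▸ dvd_pow_self 2 k.succ_ne_zero)
    rcases h2 with h2 | h2
    · norm_num at h2
    · subst h2; norm_num at hk
  · exact h5 hg

/-- A soluble subgroup has at most two primes in its order. -/
theorem Spec.primes_le_two (hG : Spec G) (H : Subgroup G) [Finite G] [Group.IsSolvable H] :
    (Nat.card H).primeFactors.card ≤ 2 :=
  Cfsg.Agent.S1475.result fun g => (hG.subgroup H).primePow g

theorem Spec.no_three_primes (hG : Spec G) (H : Subgroup G) [Finite G] [Group.IsSolvable H]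
    {p q r : ℕ} (hp : p.Prime) (hq : q.Prime) (hr : r.Prime) (hpq : p ≠ q) (hpr : p ≠ r)
    (hqr : q ≠ r) (h1 : p ∣ Nat.card H) (h2 : q ∣ Nat.card H) (h3 : r ∣ Nat.card H) : False := by
  have hsub : ({p, q, r} : Finset ℕ) ⊆ (Nat.card H).primeFactors := by
    intro x hx
    simp only [Finset.mem_insert, Finset.mem_singleton] at hx
    rcases hx with rfl | rfl | rfl <;>
      exact Nat.mem_primeFactors.2 ⟨by assumption, by assumption, Nat.card_pos.ne'⟩
  have h := (Finset.card_le_card hsub).trans (hG.primes_le_two H)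
  rw [Finset.card_eq_three.2 ⟨p, q, r, hpq, hpr, hqr, rfl⟩] at h
  omega

theorem Spec.eq_one_of_commute [Finite G] (hG : Spec G) {a b : G} (hab : Commute a b) (ha : a ≠ 1)
    (hco : (orderOf a).Coprime (orderOf b)) : b = 1 := by
  by_contra hb
  have ho := hab.orderOf_mul_eq_mul_orderOf_of_coprime hco
  have h2a : 2 ≤ orderOf a := by
    have := orderOf_pos a
    have : orderOf a ≠ 1 := fun e => ha (orderOf_eq_one_iff.1 e)
    omega
  have h2b : 2 ≤ orderOf b := by
    have := orderOf_pos b
    have : orderOf b ≠ 1 := fun e => hb (orderOf_eq_one_iff.1 e)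
    omega
  have hab1 : a * b ≠ 1 := fun e => by
    rw [e, orderOf_one] at ho
    have := Nat.mul_le_mul h2a h2b
    omega
  rcases hG (a * b) hab1 with ⟨k, hk⟩ | ⟨hp, -⟩
  · rw [ho] at hk
    obtain ⟨i, -, hi⟩ := (Nat.dvd_prime_pow Nat.prime_two).1 (Dvd.intro _ hk)
    obtain ⟨j, -, hj⟩ := (Nat.dvd_prime_pow Nat.prime_two).1 (Dvd.intro_left _ hk)
    rw [hi, hj] at hco
    rcases i with _ | i
    · rw [hi] at h2a; simp at h2a
    rcases j with _ | j
    · rw [hj] at h2b; simp at h2b
    exact Nat.not_coprime_of_dvd_of_dvd one_lt_two (dvd_pow_self 2 i.succ_ne_zero)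
      (dvd_pow_self 2 j.succ_ne_zero) hco
  · rw [ho] at hp
    exact Nat.not_prime_mul (by omega) (by omega) hp

theorem Spec.isPGroup_centralizer [Finite G] (hG : Spec G) {p : ℕ} [hp : Fact p.Prime] {x : G}
    (hx : orderOf x = p) : IsPGroup p (Subgroup.centralizer ({x} : Set G)) := by
  rintro ⟨g, hg⟩
  have hc : Commute x g := (Subgroup.mem_centralizer_singleton_iff.1 hg).symm
  have hx1 : x ≠ 1 := fun e => by rw [e, orderOf_one] at hx; exact hp.out.ne_one hx.symm
  suffices ∃ k, orderOf g = p ^ k by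
    obtain ⟨k, hk⟩ := this
    exact ⟨k, Subtype.ext (by show g ^ p ^ k = 1; rw [← hk, pow_orderOf_eq_one])⟩
  rcases Nat.coprime_or_dvd_of_prime hp.out (orderOf g) with h | h
  · exact ⟨0, by rw [hG.eq_one_of_commute hc hx1 (hx ▸ h), orderOf_one, pow_zero]⟩
  · by_cases hp2 : p = 2
    · subst hp2
      exact hG.orderOf_two_pow h
    · exact ⟨1, by rw [pow_one, hG.orderOf_eq hp.out hp2 h]⟩

theorem mem_centralizer_of_commute {x y : G} (h : Commute y x) :
    y ∈ Subgroup.centralizer ({x} : Set G) :=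
  Subgroup.mem_centralizer_singleton_iff.2 h

theorem Spec.pow_eq_one_of_isPGroup (hG : Spec G) {p : ℕ} [hp : Fact p.Prime] (hp2 : p ≠ 2)
    {P : Subgroup G} [Finite G] (hP : IsPGroup p P) {g : G} (hg : g ∈ P) : g ^ p = 1 := by
  by_cases h : g = 1
  · rw [h, one_pow]
  obtain ⟨k, hk⟩ := hP.exists_orderOf_eq_pow ⟨g, hg⟩
  rw [Subgroup.orderOf_mk] at hk
  have hd : p ∣ orderOf g := by
    rcases k with _ | k
    · exact absurd (orderOf_eq_one_iff.1 (by rw [hk, pow_zero])) h
    · rw [hk]; exact dvd_pow_self p k.succ_ne_zero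
  rw [← hG.orderOf_eq hp.out hp2 hd, pow_orderOf_eq_one]

/-- An involution normalising a subgroup of odd order inverts it. -/
theorem Spec.inverts [Finite G] (hG : Spec G) {a : G} (ha : orderOf a = 2) {P : Subgroup G}
    (hP : Odd (Nat.card P)) (hn : a ∈ Subgroup.normalizer (P : Set G)) :
    ∀ y ∈ P, a * y * a⁻¹ = y⁻¹ := by
  have hai : a⁻¹ = a := invol_inv ha
  let φ : P →* P := MonoidHom.mk'
    (fun y => ⟨a * y * a⁻¹, (Subgroup.mem_normalizer_iff.1 hn y).1 y.2⟩)
    fun y z => Subtype.ext (by simp [mul_assoc])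
  have hfix : MonoidHom.FixedPointFree (φ : P → P) := by
    intro y hy
    have hc : Commute a (y : G) := mul_inv_eq_iff_eq_mul.1 (congrArg Subtype.val hy)
    refine Subtype.ext (hG.eq_one_of_commute hc (invol_ne_one ha) ?_)
    rw [ha, Nat.coprime_two_left, Subgroup.orderOf_coe]
    exact hP.of_dvd_nat (orderOf_dvd_natCard y)
  have hinv : Function.Involutive (φ : P → P) := fun y => Subtype.ext (by
    show a * (a * y * a⁻¹) * a⁻¹ = y
    rw [hai, show a * (a * (y : G) * a) * a = (a * a) * y * (a * a) by group, invol_sq ha, one_mul,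
      mul_one])
  intro y hy
  exact congrArg Subtype.val (congrFun (hfix.coe_eq_inv_of_involutive hinv) ⟨y, hy⟩)

/-- A subgroup of odd order normalised by an involution is a `p`-group. -/
theorem Spec.comm_of_normalized [Finite G] (hG : Spec G) {a : G} (ha : orderOf a = 2)
    {P : Subgroup G} (hP : Odd (Nat.card P)) (hn : a ∈ Subgroup.normalizer (P : Set G)) :
    ∀ x ∈ P, ∀ y ∈ P, Commute x y := by
  intro x hx y hy
  have h := hG.inverts ha hP hn _ (mul_mem hx hy)
  rw [show a * (x * y) * a⁻¹ = (a * x * a⁻¹) * (a * y * a⁻¹) by group,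
    hG.inverts ha hP hn x hx, hG.inverts ha hP hn y hy] at h
  have := congrArg Inv.inv h
  show x * y = y * x
  simpa [mul_inv_rev] using this.symm

/-- A four group normalises no nontrivial subgroup of odd order. -/
theorem Spec.klein_contra [Finite G] (hG : Spec G) {a b : G} (ha : orderOf a = 2)
    (hb : orderOf b = 2) (hab : Commute a b) (hne : a ≠ b) {P : Subgroup G} (hne' : P ≠ ⊥)
    (hP : Odd (Nat.card P)) (hna : a ∈ Subgroup.normalizer (P : Set G))
    (hnb : b ∈ Subgroup.normalizer (P : Set G)) : False := by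
  apply hne'
  rw [Subgroup.eq_bot_iff_forall]
  intro y hy
  have hne1 : a * b ≠ 1 := fun e => hne (by rw [eq_inv_of_mul_eq_one_left e, invol_inv hb])
  have hord : orderOf (a * b) = 2 := by
    refine orderOf_eq_prime ?_ hne1
    rw [hab.mul_pow, pow_two, pow_two, invol_sq ha, invol_sq hb, one_mul]
  have hc : Commute (a * b) y := by
    show a * b * y = y * (a * b)
    calc a * b * y = a * (b * y * b⁻¹) * a⁻¹ * (a * b) := by group
      _ = y * (a * b) := by
        rw [hG.inverts hb hP hnb y hy, hG.inverts ha hP hna y⁻¹ (inv_mem hy), inv_inv]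
  refine hG.eq_one_of_commute hc hne1 ?_
  rw [hord, Nat.coprime_two_left]
  exact hP.of_dvd_nat (by simpa using orderOf_dvd_natCard (⟨y, hy⟩ : P))

/-- A `p`-subgroup (`p` odd) normalising a nontrivial abelian 2-subgroup has order at most `p`. -/
theorem Spec.sq_not_dvd [Finite G] (hG : Spec G) {p : ℕ} [hp : Fact p.Prime] (hp2 : p ≠ 2)
    {T H : Subgroup G} (hT : IsPGroup 2 T) (hTc : IsMulCommutative T) (hT1 : T ≠ ⊥)
    (hH : H ≤ Subgroup.normalizer (T : Set G)) : ¬ p ^ 2 ∣ Nat.card H := by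
  intro hd
  obtain ⟨A, hA⟩ := Sylow.exists_subgroup_card_pow_prime p hd
  have hAc : IsMulCommutative A := IsPGroup.isMulCommutative_of_card_eq_prime_sq (p := p) hA
  have hAp : IsPGroup p A := IsPGroup.of_card hA
  letI : CommGroup T := { (inferInstance : Group T) with mul_comm := hTc.is_comm.comm }
  have : Nontrivial T := (Subgroup.nontrivial_iff_ne_bot _).2 hT1
  let φ : A →* MulAut T :=
    (Subgroup.normalizerMonoidHom T).comp ((Subgroup.inclusion hH).comp A.subtype)
  have hfpf : ∀ h : A, h ≠ 1 → ∀ v : T, φ h v = v → v = 1 := by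
    intro h hh v hv
    have hh1 : ((h : H) : G) ≠ 1 := fun e => hh (Subtype.ext (Subtype.ext e))
    have hc : Commute ((h : H) : G) v :=
      mul_inv_eq_iff_eq_mul.1 (congrArg Subtype.val hv)
    refine Subtype.ext (hG.eq_one_of_commute hc hh1 ?_)
    obtain ⟨i, hi⟩ := hAp.exists_orderOf_eq_pow h
    obtain ⟨j, hj⟩ := hT.exists_orderOf_eq_pow v
    rw [Subgroup.orderOf_coe, Subgroup.orderOf_coe, Subgroup.orderOf_coe, hi, hj]
    exact Nat.Coprime.pow _ _ ((Nat.coprime_primes hp.out Nat.prime_two).2 hp2)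
  have hcyc := CfsgLib.Solvable.isCyclic_of_fpf φ hfpf (⊤ : Subgroup A)
  obtain ⟨g, hg⟩ := isCyclic_iff_exists_orderOf_eq_natCard.1 hcyc
  rw [Subgroup.card_top, hA, ← Subgroup.orderOf_coe, ← Subgroup.orderOf_coe,
    ← Subgroup.orderOf_coe] at hg
  have := hG.orderOf_eq hp.out hp2 (g := ((g : A) : H).1) (hg ▸ dvd_pow_self p two_ne_zero)
  rw [hg] at this
  have h1 := hp.out.one_lt
  nlinarith

theorem Spec.even [Finite G] (hG : Spec G) (hns : ¬ Group.IsSolvable G) : Even (Nat.card G) := by
  obtain ⟨r, u, y, hr, hr2, hu, ⟨k, hy⟩, hyu⟩ := CfsgLib.StructB.exists_inverted_odd_prime hns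
  rcases k with _ | k
  · exfalso
    rw [pow_zero, orderOf_eq_one_iff] at hy
    rw [hy, one_mul, inv_one, mul_one] at hyu
    have : orderOf u ∣ 2 := orderOf_dvd_of_pow_eq_one (by
      rw [pow_two]; nth_rw 1 [hyu]; exact inv_mul_cancel u)
    rw [hu] at this
    exact hr2 ((Nat.prime_dvd_prime_iff_eq hr Nat.prime_two).1 this)
  · exact even_iff_two_dvd.2 ((dvd_pow_self 2 k.succ_ne_zero).trans (hy ▸ orderOf_dvd_natCard y))

/-- A simple insoluble group of even order contains a four group. -/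
theorem four_of_simple {L : Type u} [Group L] [Finite L] [IsSimpleGroup L]
    (hns : ¬ Group.IsSolvable L) (heven : Even (Nat.card L)) :
    ∃ a b : L, orderOf a = 2 ∧ orderOf b = 2 ∧ Commute a b ∧ a ≠ b := by
  by_contra hc
  push Not at hc
  have hrank : ∀ E : Subgroup L, ¬ IsKleinFour E := fun E hE => by
    classical
    have := hE
    have h4 : Nat.card E = 4 := IsKleinFour.card_four (G := E)
    obtain ⟨a, b, ha, hb, hab⟩ : ∃ a b : E, a ≠ 1 ∧ b ≠ 1 ∧ a ≠ b := by
      have : Nontrivial E := Finite.one_lt_card_iff_nontrivial.1 (by omega)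
      obtain ⟨a, ha⟩ := exists_ne (1 : E)
      obtain ⟨b, hb, hba⟩ : ∃ b : E, b ≠ 1 ∧ b ≠ a := by
        by_contra hcon
        push Not at hcon
        have hs : Function.Surjective (![(1 : E), a] : Fin 2 → E) := fun b => by
          by_cases hb : b = 1
          · exact ⟨0, hb.symm⟩
          · exact ⟨1, (hcon b hb).symm⟩
        have := Nat.card_le_card_of_surjective _ hs
        rw [h4, Nat.card_eq_fintype_card, Fintype.card_fin] at this
        omega
      exact ⟨a, b, ha, hb, Ne.symm hba⟩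
    have hord : ∀ g : E, g ≠ 1 → orderOf (g : L) = 2 := fun g hg => by
      rw [Subgroup.orderOf_coe]
      exact orderOf_eq_prime (by rw [pow_two, IsKleinFour.mul_self]) hg
    exact hab (Subtype.ext (hc a b (hord a ha) (hord b hb)
      (congrArg Subtype.val (mul_comm_of_exponent_two IsKleinFour.exponent_two a b))))
  obtain ⟨z, hz, hzo⟩ := CfsgLib.Invol.centralInvol L heven hrank fun N hN hodd =>
    (hN.eq_bot_or_eq_top).resolve_right fun e => by
      rw [e, Subgroup.card_top] at hodd
      exact Nat.not_even_iff_odd.2 hodd heven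
  refine hns (Group.isSolvable_of_comm fun a b => ?_)
  have htop : Subgroup.center L = ⊤ := (Subgroup.Normal.eq_bot_or_eq_top inferInstance).resolve_left
    fun e => by rw [e, Subgroup.mem_bot] at hz; exact invol_ne_one hzo hz
  exact (Subgroup.mem_center_iff.1 (htop ▸ Subgroup.mem_top b) a)

end CfsgLib.Recog.EPPOSeven
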