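import Cfsg.Agent.Lib.Recog.EPPOSeven.Basic
import Cfsg.Agent.Lib.Char.Burnside

/-!
A simple group of order 168: the subgroups and elements needed in the recognition.
-/

set_option autoImplicit false

namespace CfsgLib.Recog.EPPOSeven

open Subgroup

universe u

variable {L : Type u} [Group L] [Finite L]

theorem not_solvable_168 [IsSimpleGroup L] (h : Nat.card L = 168) : ¬ Group.IsSolvable L := by
  intro hs
  have hc : ∀ a b : L, a * b = b * a := IsSimpleGroup.comm_iff_isSolvable.2 hs
  letI : CommGroup L := { (inferInstance : Group L) with mul_comm := hc }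
  have hp := IsSimpleGroup.prime_card (α := L)
  rw [h] at hp
  norm_num at hp

/-- The normaliser of a Sylow 7-subgroup has order 21. -/
theorem exists_twentyone [IsSimpleGroup L] (h : Nat.card L = 168) :
    ∃ B : Subgroup L, Nat.card B = 21 := by
  have : Fact (Nat.Prime 7) := ⟨by norm_num⟩
  obtain ⟨P⟩ : Nonempty (Sylow 7 L) := inferInstance
  have hP : Nat.card (P : Subgroup L) = 7 := by
    rw [P.card_eq_multiplicity, h]
    rw [show 168 = 7 ^ 1 * 24 by norm_num, Nat.factorization_mul (by norm_num) (by norm_num),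
      Nat.Prime.factorization_pow (by norm_num)]
    simp [Nat.factorization_eq_zero_of_not_dvd (show ¬ 7 ∣ 24 by norm_num)]
  refine ⟨Subgroup.normalizer (P : Set L), ?_⟩
  have hn : Nat.card (Sylow 7 L) = (Subgroup.normalizer (P : Set L)).index := P.card_eq_index_normalizer
  have hidx : (P : Subgroup L).index = 24 := by
    have := Subgroup.card_mul_index (P : Subgroup L)
    rw [hP, h] at this; omega
  have hd : Nat.card (Sylow 7 L) ∣ 24 := hidx ▸ P.card_dvd_index
  have hm : Nat.card (Sylow 7 L) % 7 = 1 := card_sylow_modEq_one 7 L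
  have hne : Nat.card (Sylow 7 L) ≠ 1 := by
    intro e
    rw [hn] at e
    have hN : (P : Subgroup L).Normal := Subgroup.normalizer_eq_top_iff.1 (Subgroup.index_eq_one.1 e)
    rcases hN.eq_bot_or_eq_top with e' | e'
    · rw [e', Subgroup.card_bot] at hP; omega
    · rw [e', Subgroup.card_top, h] at hP; omega
  have h8 : Nat.card (Sylow 7 L) = 8 := by
    have hle := Nat.le_of_dvd (by norm_num) hd
    interval_cases hk : Nat.card (Sylow 7 L) <;> omega
  have := Subgroup.card_mul_index (Subgroup.normalizer (P : Set L))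
  rw [← hn, h8, h] at this
  omega

/-- In a simple group of order 168 with our spectrum an involution has at least 21 conjugates. -/
theorem twentyone_le_invol (hL : Spec L) (h : Nat.card L = 168) {t : L}
    (ht : orderOf t = 2) : 21 ≤ Nat.card {v : L // orderOf v = 2} := by
  have : Fact (Nat.Prime 2) := ⟨Nat.prime_two⟩
  set C := Subgroup.centralizer ({t} : Set L) with hC
  obtain ⟨k, hk⟩ := IsPGroup.iff_card.1 (hL.isPGroup_centralizer ht)
  have hd : 2 ^ k ∣ 168 := hk ▸ h ▸ Subgroup.card_subgroup_dvd_card C
  have hk3 : k ≤ 3 := by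
    by_contra hcon
    have := (Nat.pow_dvd_pow 2 (show 4 ≤ k by omega)).trans hd
    norm_num at this
  have hidx : 21 ≤ C.index := by
    have := Subgroup.card_mul_index C
    rw [hk, h] at this
    have h8 : 2 ^ k ≤ 8 := le_trans (Nat.pow_le_pow_right (by norm_num) hk3) (by norm_num)
    nlinarith
  refine hidx.trans ?_
  rw [Subgroup.index_eq_card]
  refine Nat.card_le_card_of_injective (fun q => ⟨q.out * t * q.out⁻¹, by
    rw [← ht]; exact (MulAut.conj q.out).orderOf_eq t⟩) ?_
  intro q q' hqq
  have e : q.out * t * q.out⁻¹ = q'.out * t * q'.out⁻¹ := congrArg Subtype.val hqq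
  rw [← q.out_eq', ← q'.out_eq', QuotientGroup.eq]
  refine mem_centralizer_of_commute ?_
  show q.out⁻¹ * q'.out * t = t * (q.out⁻¹ * q'.out)
  calc q.out⁻¹ * q'.out * t = q.out⁻¹ * (q'.out * t * q'.out⁻¹) * q'.out := by group
    _ = q.out⁻¹ * (q.out * t * q.out⁻¹) * q'.out := by rw [e]
    _ = t * (q.out⁻¹ * q'.out) := by group

end CfsgLib.Recog.EPPOSeven
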