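import Cfsg.Agent.Lib.Recog.EPPOSeven.Card168
import Cfsg.Agent.Lib.Recog.EPOFive.StrongNonsolvable
import Cfsg.Agent.Lib.Solvable.PCore
import Cfsg.Agent.Lib.Solvable.MinNormal
import Cfsg.Prelude.Def_Involutions
import Cfsg.Prelude.Def_CaseTheorems

/-!
The simple case: standing hypotheses and first consequences.
-/

set_option autoImplicit false

namespace CfsgLib.Recog.EPPOSeven

open Subgroup
open scoped commutatorElement

universe u

/-- Standing hypotheses: a simple insoluble group with our spectrum all of whose proper insoluble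
subgroups are simple of order 168. -/
structure Ctx (G : Type u) [Group G] : Prop where
  spec : Spec G
  insol : ¬ Group.IsSolvable G
  simple : IsSimpleGroup G
  ih : ∀ H : Subgroup G, H ≠ ⊤ → ¬ Group.IsSolvable H → IsSimpleGroup H ∧ Nat.card H = 168

namespace Ctx

variable {G : Type u} [Group G] [Finite G]

theorem normal_eq_bot (h : Ctx G) {N : Subgroup G} (hN : N.Normal) (hs : Group.IsSolvable N) :
    N = ⊥ := by
  have := h.simple
  refine hN.eq_bot_or_eq_top.resolve_right fun e => h.insol ?_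
  subst e
  exact Group.isSolvable_of_surjective (f := (Subgroup.topEquiv (G := G)).toMonoidHom)
    Subgroup.topEquiv.surjective

theorem pCore_two (h : Ctx G) : Cfsg.pCore 2 G = ⊥ := by
  have : Fact (Nat.Prime 2) := ⟨Nat.prime_two⟩
  have : Group.IsNilpotent (Cfsg.pCore 2 G) := (CfsgLib.Solvable.pCore_isPGroup 2).isNilpotent
  exact h.normal_eq_bot (CfsgLib.Solvable.pCore_normal 2 G) inferInstance

theorem perfect (h : Ctx G) : commutator G = ⊤ := by
  have := h.simple
  refine (Subgroup.Normal.eq_bot_or_eq_top inferInstance).resolve_left fun e => h.insol ?_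
  refine Group.isSolvable_of_comm fun a b => ?_
  have : (⁅a, b⁆ : G) ∈ commutator G :=
    Subgroup.commutator_mem_commutator (Subgroup.mem_top a) (Subgroup.mem_top b)
  rw [e, Subgroup.mem_bot, commutatorElement_eq_one_iff_mul_comm] at this
  exact this

theorem even (h : Ctx G) : Even (Nat.card G) := h.spec.even h.insol

theorem four (h : Ctx G) : ∃ a b : G, orderOf a = 2 ∧ orderOf b = 2 ∧ Commute a b ∧ a ≠ b :=
  have := h.simple
  four_of_simple h.insol h.even

/-- If the centralisers of all involutions of a proper subgroup lie in it, all involutions are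
conjugate. -/
theorem all_conj (h : Ctx G) {K : Subgroup G} (hK : K ≠ ⊤)
    (hC : ∀ t ∈ K, orderOf t = 2 → Subgroup.centralizer ({t} : Set G) ≤ K)
    {w : G} (hw : w ∈ K) (hw2 : orderOf w = 2) :
    ∀ v : G, orderOf v = 2 → ∃ g, g * w * g⁻¹ = v := by
  have := h.simple
  have hout : ∀ u : G, orderOf u = 2 → u ∉ K → ∃ g, g * w * g⁻¹ = u := by
    intro u hu hK'
    by_cases ho : Odd (orderOf (w * u))
    · exact EPOFive.Ctx.conj_of_odd hw2 hu ho
    · exfalso
      obtain ⟨j, hj, hwj, huj⟩ :=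
        EPOFive.Ctx.exists_commuting hw2 hu (Nat.not_odd_iff_even.1 ho)
      have hjK : j ∈ K := hC w hw hw2 (mem_centralizer_of_commute hwj.symm)
      exact hK' (hC j hjK hj (mem_centralizer_of_commute huj))
  intro v hv
  by_cases hvK : v ∈ K
  · obtain ⟨g, hg⟩ : ∃ g, g * v * g⁻¹ ∉ K := by
      by_contra hc
      push Not at hc
      have hn : (Subgroup.normalClosure ({v} : Set G)) ≤ K := by
        rw [Subgroup.normalClosure, Subgroup.closure_le]
        intro y hy
        simp only [Group.mem_conjugatesOfSet_iff, Set.mem_singleton_iff, exists_eq_left,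
          isConj_iff] at hy
        obtain ⟨c, rfl⟩ := hy
        exact hc c
      rcases (Subgroup.normalClosure_normal (s := ({v} : Set G))).eq_bot_or_eq_top with e | e
      · have : v ∈ Subgroup.normalClosure ({v} : Set G) := Subgroup.subset_normalClosure rfl
        rw [e, Subgroup.mem_bot] at this
        exact invol_ne_one hv this
      · exact hK (eq_top_iff.2 (e ▸ hn))
    obtain ⟨c, hc⟩ := hout _ (by rw [← hv]; exact (MulAut.conj g).orderOf_eq v) hg
    exact ⟨g⁻¹ * c, by
      calc g⁻¹ * c * w * (g⁻¹ * c)⁻¹ = g⁻¹ * (c * w * c⁻¹) * g := by group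
        _ = v := by rw [hc]; group⟩
  · exact hout v hv hvK

/-- The involutions of a strongly embedded subgroup are conjugate in it. -/
theorem se_conj (h : Ctx G) {K : Subgroup G} (hK : Cfsg.IsStronglyEmbedded K) {w v : G}
    (hw : w ∈ K) (hw2 : orderOf w = 2) (hv : v ∈ K) (hv2 : orderOf v = 2) :
    ∃ k ∈ K, k * w * k⁻¹ = v := by
  obtain ⟨g, hg⟩ :=
    h.all_conj hK.1 (fun t ht ht2 => EPOFive.Ctx.se_centralizer hK ht ht2) hw hw2 v hv2
  refine ⟨g, ?_, hg⟩
  by_contra hgK
  have hodd := hK.2.2 g hgK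
  have hmem : v ∈ K ⊓ K.map (MulAut.conj g).toMonoidHom := ⟨hv, ⟨w, hw, hg⟩⟩
  have h2 := hodd.of_dvd_nat
    (orderOf_dvd_natCard (⟨v, hmem⟩ : ↥(K ⊓ K.map (MulAut.conj g).toMonoidHom)))
  rw [Subgroup.orderOf_mk, hv2] at h2
  exact absurd h2 (by decide)

/-- A strongly embedded subgroup contains a four group. -/
theorem se_four (h : Ctx G) {K : Subgroup G} (hK : Cfsg.IsStronglyEmbedded K) :
    ∃ a b : G, a ∈ K ∧ b ∈ K ∧ orderOf a = 2 ∧ orderOf b = 2 ∧ Commute a b ∧ a ≠ b := by
  have : Fact (Nat.Prime 2) := ⟨Nat.prime_two⟩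
  obtain ⟨t, ht⟩ := exists_prime_orderOf_dvd_card' (G := K) 2 (even_iff_two_dvd.1 hK.2.1)
  rw [← Subgroup.orderOf_coe] at ht
  obtain ⟨a, b, ha, hb, hab, hne⟩ := h.four
  obtain ⟨g, hg⟩ :=
    h.all_conj hK.1 (fun t ht ht2 => EPOFive.Ctx.se_centralizer hK ht ht2) t.2 ht a ha
  have ha' : (MulAut.conj g⁻¹) a = t := by rw [← hg]; simp [mul_assoc]
  refine ⟨t, MulAut.conj g⁻¹ b, t.2, ?_, ht, ?_, ?_, fun e => hne ((MulAut.conj g⁻¹).injective (ha'.trans e))⟩
  · refine EPOFive.Ctx.se_centralizer hK t.2 ht (mem_centralizer_of_commute ?_)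
    rw [← ha']
    exact hab.symm.map (MulAut.conj g⁻¹).toMonoidHom
  · rw [← hb]; exact (MulAut.conj g⁻¹).orderOf_eq b
  · rw [← ha']
    exact hab.map (MulAut.conj g⁻¹).toMonoidHom

theorem twoLocal_solvable (h : Ctx G) {T : Subgroup G} (hT : IsPGroup 2 T) (hT1 : T ≠ ⊥) :
    Group.IsSolvable (Subgroup.normalizer (T : Set G)) := by
  have : Fact (Nat.Prime 2) := ⟨Nat.prime_two⟩
  have : Group.IsNilpotent T := hT.isNilpotent
  set N := Subgroup.normalizer (T : Set G) with hN
  by_contra hns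
  have hNtop : N ≠ ⊤ := fun e => hT1 (h.normal_eq_bot (Subgroup.normalizer_eq_top_iff.1 e) inferInstance)
  obtain ⟨hs, -⟩ := h.ih N hNtop hns
  have hle : T ≤ N := Subgroup.le_normalizer
  rcases (Subgroup.normal_in_normalizer : (T.subgroupOf N).Normal).eq_bot_or_eq_top with e | e
  · rw [Subgroup.subgroupOf_eq_bot] at e
    exact hT1 (disjoint_self.1 (e.mono_right hle))
  · refine hns (Group.isSolvable_of_surjective (f := Subgroup.inclusion hle) fun x => ?_)
    have hx : x ∈ T.subgroupOf N := e ▸ Subgroup.mem_top x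
    exact ⟨⟨x, Subgroup.mem_subgroupOf.1 hx⟩, rfl⟩

theorem charTwo (h : Ctx G) : Cfsg.IsCharacteristicTwoType G := by
  refine ⟨h.even, fun T hT hT1 => ?_⟩
  set N := Subgroup.normalizer (T : Set G) with hN
  have : Fact (Nat.Prime 2) := ⟨Nat.prime_two⟩
  have hTn : (T.subgroupOf N).Normal := Subgroup.normal_in_normalizer
  have hT2 : IsPGroup 2 (T.subgroupOf N) :=
    hT.of_equiv (Subgroup.subgroupOfEquivOfLe Subgroup.le_normalizer).symm
  obtain ⟨t, ht, ht2⟩ : ∃ t : N, t ∈ T.subgroupOf N ∧ orderOf t = 2 := by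
    have : Nontrivial (T.subgroupOf N) := (Subgroup.nontrivial_iff_ne_bot _).2 fun e => hT1 (by
      rw [Subgroup.subgroupOf_eq_bot] at e
      exact disjoint_self.1 (e.mono_right Subgroup.le_normalizer))
    obtain ⟨k, hk⟩ := IsPGroup.iff_card.1 hT2
    have h1 : 1 < Nat.card (T.subgroupOf N) := Finite.one_lt_card
    have hk0 : k ≠ 0 := fun e => by rw [hk, e] at h1; omega
    obtain ⟨⟨t, ht⟩, ht2⟩ := exists_prime_orderOf_dvd_card' (G := T.subgroupOf N) 2
      (hk ▸ dvd_pow_self 2 hk0)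
    exact ⟨t, ht, (Subgroup.orderOf_coe ⟨t, ht⟩).trans ht2⟩
  show Subgroup.centralizer (Cfsg.pCore 2 N : Set N) ≤ Cfsg.pCore 2 N
  have := CfsgLib.Solvable.pCore_normal 2 N
  refine CfsgLib.Solvable.le_pCore inferInstance ?_
  refine ((h.spec.subgroup N).isPGroup_centralizer ht2).to_le (Subgroup.centralizer_le ?_)
  rw [Set.singleton_subset_iff]
  exact CfsgLib.Solvable.le_pCore hTn hT2 ht

theorem sylow_centralizer (h : Ctx G) (S : Sylow 2 G) :
    Subgroup.centralizer {z : G | z ∈ (S : Subgroup G) ∧ z ^ 2 = 1 ∧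
        ∀ s ∈ (S : Subgroup G), s * z = z * s} ≤
      Subgroup.normalizer ((S : Subgroup G) : Set G) := by
  have : Fact (Nat.Prime 2) := ⟨Nat.prime_two⟩
  set X := {z : G | z ∈ (S : Subgroup G) ∧ z ^ 2 = 1 ∧ ∀ s ∈ (S : Subgroup G), s * z = z * s}
  have hS1 : Nontrivial (S : Subgroup G) := by
    rw [Subgroup.nontrivial_iff_ne_bot]
    exact Sylow.ne_bot_of_dvd_card S (even_iff_two_dvd.1 h.even)
  have hc : Nontrivial (Subgroup.center (S : Subgroup G)) := S.2.center_nontrivial
  obtain ⟨k, hk⟩ := IsPGroup.iff_card.1 (S.2.to_subgroup (Subgroup.center (S : Subgroup G)))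
  have h1 : 1 < Nat.card (Subgroup.center (S : Subgroup G)) := Finite.one_lt_card
  have hk0 : k ≠ 0 := fun e => by rw [hk, e] at h1; omega
  obtain ⟨⟨⟨z, hzS⟩, hzc⟩, hz2⟩ := exists_prime_orderOf_dvd_card'
    (G := Subgroup.center (S : Subgroup G)) 2 (hk ▸ dvd_pow_self 2 hk0)
  rw [← Subgroup.orderOf_coe, ← Subgroup.orderOf_coe] at hz2
  have hzX : z ∈ X := ⟨hzS, by rw [← hz2]; exact pow_orderOf_eq_one z, fun s hs =>
    congrArg Subtype.val (Subgroup.mem_center_iff.1 hzc ⟨s, hs⟩)⟩
  have h2 : IsPGroup 2 (Subgroup.centralizer X) :=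
    (h.spec.isPGroup_centralizer hz2).to_le (Subgroup.centralizer_le (by simpa using hzX))
  have hle : (S : Subgroup G) ≤ Subgroup.centralizer X := fun s hs x hx => (hx.2.2 s hs).symm
  rw [S.3 h2 hle]
  exact Subgroup.le_normalizer

theorem odd_closure (h : Ctx G) : Subgroup.closure {g : G | Odd (orderOf g)} = ⊤ := by
  have := h.simple
  have hn : (Subgroup.closure {g : G | Odd (orderOf g)}).Normal := by
    refine ⟨fun x hx c => ?_⟩
    induction hx using Subgroup.closure_induction with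
    | mem y hy =>
      refine Subgroup.subset_closure ?_
      show Odd (orderOf (c * y * c⁻¹))
      rwa [show orderOf (c * y * c⁻¹) = orderOf y from (MulAut.conj c).orderOf_eq y]
    | one => rw [mul_one, mul_inv_cancel]; exact one_mem _
    | mul a b _ _ ha hb => rw [← conj_mul]; exact mul_mem ha hb
    | inv a _ ha => rw [← conj_inv]; exact inv_mem ha
  refine hn.eq_bot_or_eq_top.resolve_left fun e => h.insol ?_
  obtain ⟨r, u, y, hr, hr2, hu, -, -⟩ := CfsgLib.StructB.exists_inverted_odd_prime h.insol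
  have : u ∈ Subgroup.closure {g : G | Odd (orderOf g)} :=
    Subgroup.subset_closure (show Odd (orderOf u) by rw [hu]; exact hr.odd_of_ne_two hr2)
  rw [e, Subgroup.mem_bot] at this
  rw [this, orderOf_one] at hu
  exact absurd hu.symm hr.ne_one

end Ctx

end CfsgLib.Recog.EPPOSeven
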