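import Cfsg.Agent.Lib.Recog.EPPOSeven.TwoLocal

/-!
Insoluble groups in which every non-identity element has order a power of two or a prime other
than five are simple of order 168.
-/

set_option autoImplicit false

namespace CfsgLib.Recog.EPPOSeven

open Subgroup

universe u

variable {G : Type u} [Group G] [Finite G]

theorem Spec.no_solvable_normal (hG : Spec G) (hns : ¬ Group.IsSolvable G)
    (ih : ∀ (H : Type u) [Group H] [Finite H], Nat.card H < Nat.card G → Spec H →
      ¬ Group.IsSolvable H → IsSimpleGroup H ∧ Nat.card H = 168)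
    {N : Subgroup G} (hN : N.Normal) (hs : Group.IsSolvable N) : N = ⊥ := by
  by_contra hne
  obtain ⟨M, hM, hM1, hMN, hmin⟩ := CfsgLib.Solvable.exists_minimal_normal_le hN hne
  have : Group.IsSolvable M :=
    Group.isSolvable_of_isSolvable_injective (f := Subgroup.inclusion hMN)
      (Subgroup.inclusion_injective _)
  obtain ⟨p, hp, hMp, -, -⟩ := CfsgLib.Solvable.exists_isPGroup_of_minimal_normal hM1 hmin
  have := Fact.mk hp
  have hQ : ¬ Group.IsSolvable (G ⧸ M) := fun h =>
    hns ((Group.isSolvable_iff_subgroup_quotient M).2 ⟨inferInstance, h⟩)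
  have hlt : Nat.card (G ⧸ M) < Nat.card G := by
    rw [Subgroup.card_eq_card_quotient_mul_card_subgroup M]
    exact lt_mul_of_one_lt_right Nat.card_pos ((Subgroup.one_lt_card_iff_ne_bot M).2 hM1)
  obtain ⟨hsimple, hc⟩ := ih _ hlt (hG.quotient M) hQ
  by_cases hp2 : p = 2
  · subst hp2
    obtain ⟨B, hB⟩ := exists_twentyone hc
    set H := B.comap (QuotientGroup.mk' M)
    have hMH : M ≤ H := fun m hm => by
      show QuotientGroup.mk' M m ∈ B
      rw [QuotientGroup.mk'_apply, (QuotientGroup.eq_one_iff m).2 hm]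
      exact one_mem _
    let f : H →* B :=
      ((QuotientGroup.mk' M).comp H.subtype).codRestrict B fun x => x.2
    have hf : Function.Surjective f := fun b => by
      obtain ⟨g, hg⟩ := QuotientGroup.mk'_surjective M b.1
      exact ⟨⟨g, show QuotientGroup.mk' M g ∈ B from hg.symm ▸ b.2⟩, Subtype.ext hg⟩
    have : Group.IsSolvable B := CfsgLib.Char.burnside_pq 3 7 Nat.prime_three (by norm_num) 1 1 B
      (by rw [hB]; rfl)
    have : Group.IsSolvable H := Group.isSolvable_of_ker_le_range (Subgroup.inclusion hMH) f (by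
      intro x hx
      have hxM : (x : G) ∈ M := by
        rw [← QuotientGroup.eq_one_iff]
        exact congrArg Subtype.val (MonoidHom.mem_ker.1 hx)
      exact ⟨⟨x, hxM⟩, Subtype.ext rfl⟩)
    have h21 : 21 ∣ Nat.card H := hB ▸ Subgroup.card_dvd_of_surjective f hf
    have h2 : 2 ∣ Nat.card H := by
      obtain ⟨k, hk⟩ := IsPGroup.iff_card.1 hMp
      have h1 := (Subgroup.one_lt_card_iff_ne_bot M).2 hM1
      exact ((hk ▸ dvd_pow_self 2 (fun e => by rw [hk, e] at h1; omega)) : 2 ∣ Nat.card M).trans
        (Subgroup.card_dvd_of_le hMH)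
    exact hG.no_three_primes H Nat.prime_two Nat.prime_three (show Nat.Prime 7 by norm_num)
      (by norm_num) (by norm_num) (by norm_num) h2 ((by norm_num : 3 ∣ 21).trans h21)
      ((by norm_num : 7 ∣ 21).trans h21)
  have hodd : Odd (Nat.card M) := by
    obtain ⟨k, hk⟩ := IsPGroup.iff_card.1 hMp
    rw [hk]
    exact (hp.odd_of_ne_two hp2).pow
  have hn : ∀ g : G, g ∈ Subgroup.normalizer (M : Set G) := fun g => by
    rw [Subgroup.normalizer_eq_top_iff.2 hM]; exact Subgroup.mem_top g
  obtain ⟨q₁, q₂, hq₁, hq₂, hqc, hqne⟩ := four_of_simple hQ ((hG.quotient M).even hQ)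
  have h22 : ∀ (g : G) (q : G ⧸ M), orderOf q = 2 → (g : G ⧸ M) = q → orderOf g = 2 := by
    intro g q hq hgq
    have hd : orderOf q ∣ orderOf g := hgq ▸ orderOf_map_dvd (QuotientGroup.mk' M) g
    rw [hq] at hd
    obtain ⟨k, hk⟩ := hG.orderOf_two_pow hd
    have hm : g ^ 2 ∈ M := by
      rw [← QuotientGroup.eq_one_iff, QuotientGroup.mk_pow, hgq, ← hq, pow_orderOf_eq_one]
    rcases k with _ | _ | k
    · rw [hk] at hd; norm_num at hd
    · rw [hk]; rfl
    · exfalso
      have h1 := hodd.of_dvd_nat (orderOf_dvd_natCard (⟨g ^ 2, hm⟩ : M))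
      rw [Subgroup.orderOf_mk, orderOf_pow' _ two_ne_zero, hk,
        Nat.gcd_eq_right (dvd_pow_self 2 (by omega)), pow_succ, Nat.mul_div_cancel _ two_pos,
        pow_succ] at h1
      exact Nat.not_even_iff_odd.2 h1 (even_iff_two_dvd.2 (dvd_mul_left 2 _))
  obtain ⟨a', rfl⟩ := QuotientGroup.mk_surjective q₁
  obtain ⟨b', rfl⟩ := QuotientGroup.mk_surjective q₂
  have ha' := h22 a' _ hq₁ rfl
  have hb' := h22 b' _ hq₂ rfl
  have hne' : ((a' * b' : G) : G ⧸ M) ≠ 1 := fun e => hqne (by
    rw [QuotientGroup.mk_mul] at e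
    rw [eq_inv_of_mul_eq_one_left e, invol_inv hq₂])
  have hab' : orderOf (a' * b') = 2 := by
    refine h22 _ ((a' * b' : G) : G ⧸ M) ?_ rfl
    refine orderOf_eq_prime (hp := ⟨Nat.prime_two⟩) ?_ hne'
    rw [QuotientGroup.mk_mul, hqc.mul_pow, pow_two, pow_two, invol_sq hq₁, invol_sq hq₂, one_mul]
  have hc' : Commute a' b' := by
    show a' * b' = b' * a'
    have := invol_inv hab'
    rw [mul_inv_rev, invol_inv ha', invol_inv hb'] at this
    exact this.symm
  exact hG.klein_contra ha' hb' hc' (fun e => hqne (by rw [e])) hM1 hodd (hn a') (hn b')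

/-- A proper normal subgroup that is simple of order 168 does not occur. -/
theorem Spec.no_normal_168 (hG : Spec G) {M : Subgroup G} (hM : M.Normal) [IsSimpleGroup M]
    (hc : Nat.card M = 168) : M = ⊤ := by
  have : Fact (Nat.Prime 7) := ⟨by norm_num⟩
  have : Fact (Nat.Prime 3) := ⟨Nat.prime_three⟩
  classical
  -- a Frattini normaliser
  have key : ∀ (p : ℕ) [Fact p.Prime] (P : Sylow p M), Nat.card (P : Subgroup M) = p →
      ∃ (x : G) (N : Subgroup G), orderOf x = p ∧ Group.IsSolvable N ∧ M.index ∣ Nat.card N ∧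
        (∀ g ∈ N, g * x * g⁻¹ ∈ Subgroup.zpowers x) ∧
        Nat.card N = M.index * Nat.card (Subgroup.normalizer (P : Set M)) := by
    intro p _ P hP
    obtain ⟨⟨x, hxP⟩, hx⟩ := exists_prime_orderOf_dvd_card' (G := (P : Subgroup M)) p (by rw [hP])
    rw [Subgroup.orderOf_mk] at hx
    have hPz : (P : Subgroup M) = Subgroup.zpowers (x : M) :=
      (Subgroup.eq_of_le_of_card_ge (Subgroup.zpowers_le.2 hxP)
        (by rw [hP, Nat.card_zpowers, hx])).symm
    set N := Subgroup.normalizer ((P : Subgroup M).map M.subtype : Set G) with hNdef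
    have hsup : N ⊔ M = ⊤ := by
      have := Sylow.normalizer_sup_eq_top (N := M) P
      exact this
    have hmap : (P : Subgroup M).map M.subtype = Subgroup.zpowers ((x : M) : G) := by
      rw [hPz, MonoidHom.map_zpowers]; rfl
    have hxG : orderOf ((x : M) : G) = p := by rw [Subgroup.orderOf_coe]; exact hx
    have hconj : ∀ g ∈ N, g * ((x : M) : G) * g⁻¹ ∈ Subgroup.zpowers ((x : M) : G) := fun g hg =>
      hmap ▸ (Subgroup.mem_normalizer_iff.1 hg _).1 (hmap.symm ▸ Subgroup.mem_zpowers _)
    have hidx : (M.subgroupOf N).index = M.index := by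
      have := Subgroup.relIndex_sup_right N M
      rw [hsup, Subgroup.relIndex_top_right] at this
      exact this.symm
    have hNM : Nat.card (M.subgroupOf N) = Nat.card (Subgroup.normalizer (P : Set M)) := by
      refine Nat.card_congr
        { toFun := fun g => ⟨⟨g.1.1, Subgroup.mem_subgroupOf.1 g.2⟩, ?_⟩
          invFun := fun g => ⟨⟨g.1.1, ?_⟩, Subgroup.mem_subgroupOf.2 g.1.2⟩
          left_inv := fun g => rfl
          right_inv := fun g => rfl }
      · refine Subgroup.mem_normalizer_fintype fun y hy => ?_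
        obtain ⟨w, hw, hwe⟩ := (Subgroup.mem_normalizer_iff.1 g.1.2 (y : G)).1 ⟨y, hy, rfl⟩
        have e : w = ⟨g.1.1, Subgroup.mem_subgroupOf.1 g.2⟩ * y *
            (⟨g.1.1, Subgroup.mem_subgroupOf.1 g.2⟩ : M)⁻¹ := Subtype.ext hwe
        exact e ▸ hw
      · refine Subgroup.mem_normalizer_fintype fun y hy => ?_
        obtain ⟨w, hw, rfl⟩ := hy
        exact ⟨_, (Subgroup.mem_normalizer_iff.1 g.2 w).1 hw, by simp⟩
    have hcard : Nat.card N = M.index * Nat.card (Subgroup.normalizer (P : Set M)) := by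
      rw [← Subgroup.card_mul_index (M.subgroupOf N), hidx, hNM, mul_comm]
    refine ⟨(x : M), N, hxG, ?_, hcard ▸ dvd_mul_right _ _, hconj, hcard⟩
    -- the centraliser of `x` in `N` is a `p`-group with abelian quotient
    set X := Subgroup.zpowers ((x : M) : G)
    have hXN : X ≤ N := hmap ▸ Subgroup.le_normalizer
    let ψ : N →* MulAut X :=
      (Subgroup.normalizerMonoidHom X).comp (Subgroup.inclusion (hmap ▸ le_rfl : N ≤ Subgroup.normalizer (X : Set G)))
    have hker : IsPGroup p ψ.ker := by
      intro g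
      have hg : Commute (g : N).1 ((x : M) : G) := by
        have := congrArg Subtype.val (DFunLike.congr_fun (MonoidHom.mem_ker.1 g.2)
          (⟨((x : M) : G), Subgroup.mem_zpowers _⟩ : X))
        exact mul_inv_eq_iff_eq_mul.1 this
      obtain ⟨k, hk⟩ := hG.isPGroup_centralizer hxG ⟨_, mem_centralizer_of_commute hg⟩
      exact ⟨k, Subtype.ext (Subtype.ext (congrArg Subtype.val hk :))⟩
    have : Group.IsSolvable ψ.ker :=
      have := hker.isNilpotent
      inferInstance
    have : IsCyclic X := Subgroup.isCyclic_zpowers _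
    have : Group.IsSolvable (MulAut X) := Group.isSolvable_of_comm fun a b => by
      apply (IsCyclic.mulAutMulEquiv X).injective
      rw [map_mul, map_mul, mul_comm]
    exact Group.isSolvable_of_ker_le_range ψ.ker.subtype ψ (by rw [Subgroup.range_subtype])
  have hns := not_solvable_168 hc
  obtain ⟨P⟩ : Nonempty (Sylow 7 M) := inferInstance
  have hP7 : Nat.card (P : Subgroup M) = 7 := by
    rw [P.card_eq_multiplicity, hc]
    rw [show 168 = 7 ^ 1 * 24 by norm_num, Nat.factorization_mul (by norm_num) (by norm_num),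
      Nat.Prime.factorization_pow (by norm_num)]
    simp [Nat.factorization_eq_zero_of_not_dvd (show ¬ 7 ∣ 24 by norm_num)]
  obtain ⟨Q⟩ : Nonempty (Sylow 3 M) := inferInstance
  have hQ3 : Nat.card (Q : Subgroup M) = 3 := by
    rw [Q.card_eq_multiplicity, hc]
    rw [show 168 = 3 ^ 1 * 56 by norm_num, Nat.factorization_mul (by norm_num) (by norm_num),
      Nat.Prime.factorization_pow (by norm_num)]
    simp [Nat.factorization_eq_zero_of_not_dvd (show ¬ 3 ∣ 56 by norm_num)]
  obtain ⟨x, N, hx, hNs, hd, hconj, hNc⟩ := key 7 P hP7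
  obtain ⟨y, N', hy, -, hd', hconj', -⟩ := key 3 Q hQ3
  have h21 : Nat.card (Subgroup.normalizer (P : Set M)) = 21 := by
    have hn : Nat.card (Sylow 7 M) = (Subgroup.normalizer (P : Set M)).index :=
      P.card_eq_index_normalizer
    have hidx : (P : Subgroup M).index = 24 := by
      have := Subgroup.card_mul_index (P : Subgroup M)
      rw [hP7, hc] at this; omega
    have hd2 : Nat.card (Sylow 7 M) ∣ 24 := hidx ▸ P.card_dvd_index
    have hm : Nat.card (Sylow 7 M) % 7 = 1 := card_sylow_modEq_one 7 M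
    have hne : Nat.card (Sylow 7 M) ≠ 1 := by
      intro e
      rw [hn] at e
      have hN : (P : Subgroup M).Normal :=
        Subgroup.normalizer_eq_top_iff.1 (Subgroup.index_eq_one.1 e)
      rcases hN.eq_bot_or_eq_top with e' | e'
      · rw [e', Subgroup.card_bot] at hP7; omega
      · rw [e', Subgroup.card_top, hc] at hP7; omega
    have h8 : Nat.card (Sylow 7 M) = 8 := by
      have hle := Nat.le_of_dvd (by norm_num) hd2
      interval_cases hk : Nat.card (Sylow 7 M) <;> omega
    have := Subgroup.card_mul_index (Subgroup.normalizer (P : Set M))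
    rw [← hn, h8, hc] at this
    omega
  rw [h21] at hNc
  by_contra hne
  have hi : M.index ≠ 1 := fun e => hne (Subgroup.index_eq_one.1 e)
  obtain ⟨q, hq, hqd⟩ := Nat.exists_prime_and_dvd hi
  have hq7 : q = 7 ∨ q = 3 := by
    by_contra hc'
    push Not at hc'
    exact hG.no_three_primes N hq Nat.prime_three (show Nat.Prime 7 by norm_num) hc'.2 hc'.1
      (by norm_num) (hqd.trans hd) (hNc ▸ dvd_mul_of_dvd_right (by norm_num) _)
      (hNc ▸ dvd_mul_of_dvd_right (by norm_num) _)
  have hcoprime : ∀ {a b : G} {r s : ℕ}, r.Prime → s.Prime → r ≠ s → orderOf a = r →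
      orderOf b = s → Commute a b → False := fun {a b r s} hr hs hrs ha hb hab => by
    have h1 := hG.eq_one_of_commute hab (fun e => by rw [e, orderOf_one] at ha; exact hr.ne_one ha.symm)
      (by rw [ha, hb]; exact (Nat.coprime_primes hr hs).2 hrs)
    rw [h1, orderOf_one] at hb
    exact hs.ne_one hb.symm
  rcases hq7 with rfl | rfl
  · -- an element of order seven normalising a subgroup of order three centralises it
    obtain ⟨⟨g, hg⟩, hgo⟩ := exists_prime_orderOf_dvd_card' (G := N') 7 (hqd.trans hd')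
    rw [Subgroup.orderOf_mk] at hgo
    have hmem := hconj' g hg
    rw [mem_zpowers_iff_mem_range_orderOf, hy, Finset.mem_image] at hmem
    obtain ⟨i, hir, hi'⟩ := hmem
    rw [Finset.mem_range] at hir
    have hgg : ∀ n : ℕ, g ^ n * y * (g ^ n)⁻¹ = y ^ (i ^ n) := by
      intro n
      induction n with
      | zero => simp
      | succ n ih =>
        calc g ^ (n + 1) * y * (g ^ (n + 1))⁻¹ = g * (g ^ n * y * (g ^ n)⁻¹) * g⁻¹ := by
              rw [pow_succ']; group
          _ = y ^ (i ^ (n + 1)) := by rw [ih, ← conj_pow, ← hi', ← pow_mul, pow_succ']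
    have h7 := hgg 7
    rw [show g ^ 7 = 1 by rw [← hgo, pow_orderOf_eq_one], one_mul, inv_one, mul_one] at h7
    interval_cases i
    · rw [pow_zero] at hi'
      have : y = 1 := conj_eq_one_iff.1 hi'.symm
      rw [this, orderOf_one] at hy; omega
    · rw [pow_one] at hi'
      exact hcoprime (show Nat.Prime 7 by norm_num) Nat.prime_three (by norm_num) hgo hy
        (mul_inv_eq_iff_eq_mul.1 hi'.symm)
    · have h2 : y ^ (2 ^ 7) = y ^ 1 := by rw [← h7, pow_one]
      rw [pow_inj_mod, hy] at h2
      norm_num at h2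
  · -- nine divides the normaliser of a subgroup of order seven
    have h9 : 3 ^ 2 ∣ Nat.card N := by
      obtain ⟨w, hw⟩ := hqd
      rw [hNc, hw]
      exact ⟨7 * w, by ring⟩
    obtain ⟨A, hA⟩ := Sylow.exists_subgroup_card_pow_prime 3 h9
    -- some nontrivial element of `A` centralises `x`, as the automorphisms form a group of order six
    let X := Subgroup.zpowers x
    let f : A → X := fun a => ⟨(a : N).1 * x * (a : N).1⁻¹, hconj _ (a : N).2⟩
    have hnotinj : ¬ Function.Injective f := fun hf => by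
      have := Nat.card_le_card_of_injective f hf
      rw [hA, Nat.card_zpowers, hx] at this
      norm_num at this
    rw [Function.not_injective_iff] at hnotinj
    obtain ⟨a, b, hab, hne'⟩ := hnotinj
    have e : (a : N).1 * x * (a : N).1⁻¹ = (b : N).1 * x * (b : N).1⁻¹ := congrArg Subtype.val hab
    have hc' : Commute ((b⁻¹ * a : A) : N).1 x := by
      show (b : N).1⁻¹ * (a : N).1 * x = x * ((b : N).1⁻¹ * (a : N).1)
      calc (b : N).1⁻¹ * (a : N).1 * x = (b : N).1⁻¹ * ((a : N).1 * x * (a : N).1⁻¹) * (a : N).1 := by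
            group
        _ = x * ((b : N).1⁻¹ * (a : N).1) := by rw [e]; group
    obtain ⟨k, hk⟩ := (IsPGroup.of_card hA).exists_orderOf_eq_pow (b⁻¹ * a)
    rw [← Subgroup.orderOf_coe, ← Subgroup.orderOf_coe] at hk
    have hk1 : k ≠ 0 := fun e' => hne' (by
      subst e'
      rw [pow_zero, orderOf_eq_one_iff] at hk
      exact (inv_mul_eq_one.1 (Subtype.ext (Subtype.ext hk))).symm)
    exact hcoprime Nat.prime_three (show Nat.Prime 7 by norm_num) (by norm_num)
      (hG.orderOf_eq Nat.prime_three (by norm_num) (hk ▸ dvd_pow_self 3 hk1)) hx hc'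

/-- Insoluble groups with our spectrum. -/
theorem Spec.simple_168 : ∀ (n : ℕ) (G : Type u) [Group G] [Finite G], Nat.card G = n → Spec G →
    ¬ Group.IsSolvable G → IsSimpleGroup G ∧ Nat.card G = 168 := by
  intro n
  induction n using Nat.strong_induction_on with
  | _ n ih =>
    intro G _ _ hn hG hns
    have ih' : ∀ (H : Type u) [Group H] [Finite H], Nat.card H < Nat.card G → Spec H →
        ¬ Group.IsSolvable H → IsSimpleGroup H ∧ Nat.card H = 168 :=
      fun H _ _ hH => ih _ (hn ▸ hH) H rfl
    have hsol : ∀ N : Subgroup G, N.Normal → Group.IsSolvable N → N = ⊥ := fun N hN hs =>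
      hG.no_solvable_normal hns ih' hN hs
    have hsub : ∀ H : Subgroup G, H ≠ ⊤ → ¬ Group.IsSolvable H →
        IsSimpleGroup H ∧ Nat.card H = 168 := fun H hH hHs =>
      ih' H (lt_of_le_of_ne (Subgroup.card_le_card_group H) fun e =>
        hH ((Subgroup.card_eq_iff_eq_top H).1 e)) (hG.subgroup H) hHs
    have : Nontrivial G := by
      by_contra hc
      rw [not_nontrivial_iff_subsingleton] at hc
      exact hns (Group.isSolvable_of_comm fun a b => Subsingleton.elim _ _)
    have hsimple : IsSimpleGroup G := ⟨fun M hM => by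
      by_contra hc
      push Not at hc
      obtain ⟨h1, h2⟩ := hc
      obtain ⟨hs, hcard⟩ := hsub M h2 fun h => h1 (hsol M hM h)
      exact h2 (hG.no_normal_168 hM hcard)⟩
    exact ⟨hsimple, Ctx.card_eq ⟨hG, hns, hsimple, hsub⟩⟩

end CfsgLib.Recog.EPPOSeven
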