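import Cfsg.Agent.Lib.Recog.EPPOSeven.BSWCase
import Cfsg.Agent.Lib.Invol.TransferControl
import Cfsg.Agent.S0112
import Cfsg.Agent.S0113
import Cfsg.Agent.S0111
import Cfsg.Agent.S3282

/-!
An involution centraliser of order at least 16 containing a self-centralising four group.
-/

set_option autoImplicit false

namespace CfsgLib.Recog.EPPOSeven

open Subgroup

universe u

theorem sq_one_mod_two_pow {m : ℕ} {j : ℤ} (h : (2 : ℤ) ^ (m + 2) ∣ j * j - 1) :
    (2 : ℤ) ^ (m + 1) ∣ j - 1 ∨ (2 : ℤ) ^ (m + 1) ∣ j + 1 := by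
  obtain ⟨a, rfl | rfl⟩ := Int.even_or_odd' j
  · exfalso
    have h2 : (2 : ℤ) ∣ 2 * a * (2 * a) - 1 := (dvd_pow_self 2 (by omega)).trans h
    have h3 : (2 : ℤ) ∣ 2 * a * (2 * a) := ⟨a * (2 * a), by ring⟩
    have := dvd_sub h3 h2
    rw [sub_sub_cancel] at this
    norm_num at this
  · have h4 : (2 : ℤ) ^ m * 4 ∣ a * (a + 1) * 4 := by
      convert h using 1 <;> ring
    have hm : (2 : ℤ) ^ m ∣ a * (a + 1) := Int.dvd_of_mul_dvd_mul_right (by norm_num) h4
    have hcop : IsCoprime a (a + 1) := ⟨-1, 1, by ring⟩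
    have hp : Prime (2 : ℤ) := Int.prime_two
    by_cases ha : (2 : ℤ) ∣ a
    · left
      have hn : ¬ (2 : ℤ) ∣ a + 1 := fun hb => hp.not_unit (hcop.isUnit_of_dvd' ha hb)
      have := hp.pow_dvd_of_dvd_mul_right m hn hm
      rw [show 2 * a + 1 - 1 = a * 2 by ring, pow_succ]
      exact mul_dvd_mul_right this 2
    · right
      have := hp.pow_dvd_of_dvd_mul_left m ha hm
      rw [show 2 * a + 1 + 1 = (a + 1) * 2 by ring, pow_succ]
      exact mul_dvd_mul_right this 2

namespace Ctx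

variable {G : Type u} [Group G] [Finite G]

theorem card_of_maxClass (h : Ctx G) {z s r : G} (hz : orderOf z = 2) (hs : orderOf s = 2)
    (hsz : Commute s z) (hne : s ≠ z) (hrz : Commute r z) (hsr : ¬ Commute s r)
    (hCV : ∀ g : G, Commute g z → Commute g s → g = 1 ∨ g = z ∨ g = s ∨ g = s * z)
    (hbig : 8 < Nat.card (Subgroup.centralizer ({z} : Set G))) : Nat.card G = 168 := by
  classical
  have := h.simple
  have : Fact (Nat.Prime 2) := ⟨Nat.prime_two⟩
  set T := Subgroup.centralizer ({z} : Set G) with hTdef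
  have hTp : IsPGroup 2 T := h.spec.isPGroup_centralizer hz
  have hmemT : ∀ g : G, g ∈ T ↔ Commute g z := fun g => Subgroup.mem_centralizer_singleton_iff
  have hzT : z ∈ T := (hmemT z).2 (Commute.refl z)
  have hsT : s ∈ T := (hmemT s).2 hsz
  have hrT : r ∈ T := (hmemT r).2 hrz
  obtain ⟨n, hn⟩ := IsPGroup.iff_card.1 hTp
  have hn4 : 4 ≤ n := by
    by_contra hc
    have : 2 ^ n ≤ 2 ^ 3 := Nat.pow_le_pow_right (by norm_num) (by omega)
    omega
  -- the four group, self-centralising in `T`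
  let A : Subgroup T :=
    { carrier := {g | (g : G) = 1 ∨ (g : G) = z ∨ (g : G) = s ∨ (g : G) = s * z}
      one_mem' := Or.inl rfl
      mul_mem' := by
        intro a b ha hb
        have hzz := invol_sq hz
        have hss := invol_sq hs
        have hzs : z * s = s * z := hsz.eq.symm
        rcases ha with e | e | e | e <;> rcases hb with e' | e' | e' | e' <;>
          simp only [Set.mem_setOf_eq, Subgroup.coe_mul, e, e', one_mul, mul_one, hzz, hss, hzs,
            ← mul_assoc] <;>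
          simp [hzz, hss, hzs, mul_assoc] <;>
          simp [← mul_assoc, hzz, hss, hzs]
      inv_mem' := by
        intro a ha
        rcases ha with e | e | e | e <;>
          simp only [Set.mem_setOf_eq, Subgroup.coe_inv, e, inv_one, invol_inv hz, invol_inv hs,
            mul_inv_rev, hsz.eq.symm] <;> simp }
  have hz1 := invol_ne_one hz
  have hs1 := invol_ne_one hs
  have hA : Nat.card A = 2 ^ 2 := by
    have hsz1 : s * z ≠ 1 := fun e => hne (by rw [eq_inv_of_mul_eq_one_left e, invol_inv hz])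
    let f : Fin 4 → A := ![⟨1, Or.inl rfl⟩, ⟨⟨z, hzT⟩, Or.inr (Or.inl rfl)⟩,
      ⟨⟨s, hsT⟩, Or.inr (Or.inr (Or.inl rfl))⟩,
      ⟨⟨s * z, mul_mem hsT hzT⟩, Or.inr (Or.inr (Or.inr rfl))⟩]
    have hf : Function.Bijective f := by
      constructor
      · intro i j hij
        have := congrArg (fun a : A => ((a : T) : G)) hij
        fin_cases i <;> fin_cases j <;>
          first | rfl | (simp [f, hz1, hs1, hne, hne.symm, hsz1, hsz1.symm, hz1.symm, hs1.symm] at this)
      · rintro ⟨⟨g, hg⟩, e | e | e | e⟩ <;> simp only at e <;> subst e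
        · exact ⟨0, rfl⟩
        · exact ⟨1, rfl⟩
        · exact ⟨2, rfl⟩
        · exact ⟨3, rfl⟩
    rw [← Nat.card_eq_of_bijective f hf, Nat.card_eq_fintype_card, Fintype.card_fin]; rfl
  have hCA : Subgroup.centralizer (A : Set T) = A := by
    ext g
    constructor
    · intro hg
      refine hCV g ((hmemT _).1 g.2) ?_
      have := hg ⟨s, hsT⟩ (Or.inr (Or.inr (Or.inl rfl)))
      exact (congrArg Subtype.val this).symm
    · intro hg a ha
      refine Subtype.ext ?_
      have hzs : z * s = s * z := hsz.eq.symm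
      rcases hg with e | e | e | e <;> rcases ha with e' | e' | e' | e' <;>
        simp only [Subgroup.coe_mul, e, e', one_mul, mul_one, hzs, ← mul_assoc] <;>
        simp [mul_assoc, hzs] <;> simp [← mul_assoc, hzs]
  obtain ⟨C₀, hcyc, hidx⟩ := Cfsg.Agent.S0113.result n (by omega) hn
    (Cfsg.Agent.S0112.result n hn A hA hCA)
  obtain ⟨c₀, hc₀⟩ := (Subgroup.isCyclic_iff_exists_zpowers_eq_top C₀).1 hcyc
  set c : G := (c₀ : G) with hcdef
  have hcT : c ∈ T := c₀.2
  obtain ⟨m, rfl⟩ : ∃ m, n = m + 3 := ⟨n - 3, by omega⟩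
  have hm : 1 ≤ m := by omega
  have hcord : orderOf c = 2 ^ (m + 2) := by
    rw [hcdef, Subgroup.orderOf_coe, ← Nat.card_zpowers, hc₀]
    have := Subgroup.card_mul_index C₀
    rw [hidx, hn, pow_succ] at this
    omega
  set C := Subgroup.zpowers c with hC
  have hCmap : C₀.map T.subtype = C := by rw [← hc₀, MonoidHom.map_zpowers]; rfl
  have hCT : C ≤ T := Subgroup.zpowers_le.2 hcT
  have hCmem : ∀ g : T, g ∈ C₀ ↔ (g : G) ∈ C := fun g => by
    rw [← hCmap]
    exact ⟨fun hg => ⟨g, hg, rfl⟩, fun ⟨w, hw, e⟩ => Subtype.ext e ▸ hw⟩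
  have : C₀.Normal := Subgroup.normal_of_index_eq_two hidx
  have hconjC : ∀ g ∈ T, ∀ y ∈ C, g * y * g⁻¹ ∈ C := fun g hg y hy =>
    (hCmem (⟨g, hg⟩ * ⟨y, hCT hy⟩ * ⟨g, hg⟩⁻¹)).1
      (Subgroup.Normal.conj_mem inferInstance _ ((hCmem ⟨y, hCT hy⟩).2 hy) _)
  -- the involution of `C`
  set z' := c ^ 2 ^ (m + 1) with hz'def
  have hz' : orderOf z' = 2 := by
    rw [hz'def, orderOf_pow' _ (by positivity), hcord,
      Nat.gcd_eq_right (pow_dvd_pow 2 (by omega : m + 1 ≤ m + 2)), pow_succ 2 (m + 1),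
      Nat.mul_div_cancel_left _ (by positivity)]
  have huniq : ∀ y ∈ C, orderOf y = 2 → y = z' := by
    intro y hy hy2
    obtain ⟨i, rfl⟩ := mem_powers_iff_mem_zpowers.2 hy
    simp only at hy2 ⊢
    have hd : 2 ^ (m + 2) ∣ i * 2 := by
      rw [← hcord]; exact orderOf_dvd_of_pow_eq_one (by rw [pow_mul, ← hy2, pow_orderOf_eq_one])
    rw [pow_succ] at hd
    obtain ⟨l, rfl⟩ := Nat.dvd_of_mul_dvd_mul_right two_pos hd
    rcases Nat.even_or_odd' l with ⟨e, rfl | rfl⟩
    · exfalso
      refine invol_ne_one hy2 ?_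
      rw [← orderOf_dvd_iff_pow_eq_one, hcord]
      exact ⟨e, by ring⟩
    · rw [hz'def, show 2 ^ (m + 1) * (2 * e + 1) = 2 ^ (m + 2) * e + 2 ^ (m + 1) by ring, pow_add,
        pow_mul, ← hcord, pow_orderOf_eq_one, one_pow, one_mul]
  have hz'C : z' ∈ C := pow_mem (Subgroup.mem_zpowers c) _
  have hz'cen : ∀ g ∈ T, Commute g z' := fun g hg => by
    have := huniq _ (hconjC g hg z' hz'C) (((MulAut.conj g).orderOf_eq z').trans hz')
    exact mul_inv_eq_iff_eq_mul.1 this
  have hzz' : z' = z := by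
    rcases hCV z' ((hmemT _).1 (hCT hz'C)) ((hz'cen s hsT).symm) with e | e | e | e
    · exact absurd e (invol_ne_one hz')
    · exact e
    · exact absurd (e ▸ hz'cen r hrT) fun hc => hsr hc.symm
    · exfalso
      have hc : Commute r (s * z) := e ▸ hz'cen r hrT
      refine hsr (Commute.symm ?_)
      have := hc.mul_right hrz
      rwa [mul_assoc, invol_sq hz, mul_one] at this
  have hzC : z ∈ C := hzz' ▸ hz'C
  have hsC : s ∉ C := fun e => hne ((huniq s e hs).trans hzz')
  have hTdec : ∀ g ∈ T, g ∈ C ∨ ∃ y ∈ C, g = s * y := by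
    intro g hg
    by_cases hgC : g ∈ C
    · exact Or.inl hgC
    refine Or.inr ⟨s * g, ?_, by rw [← mul_assoc, invol_sq hs, one_mul]⟩
    refine (hCmem (⟨s, hsT⟩ * ⟨g, hg⟩)).1 ((Subgroup.mul_mem_iff_of_index_two hidx).2 ?_)
    rw [hCmem, hCmem]
    simp [hsC, hgC]
  obtain ⟨j, hj⟩ := Subgroup.mem_zpowers_iff.1 (hconjC s hsT c (Subgroup.mem_zpowers c))
  have hsj : ∀ i : ℤ, s * c ^ i * s⁻¹ = c ^ (j * i) := fun i => by rw [← conj_zpow, ← hj, zpow_mul]
  have hjj : (2 : ℤ) ^ (m + 2) ∣ j * j - 1 := by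
    have e : c ^ (j * j) = c := by
      rw [← hsj, hj, invol_inv hs,
        show s * (s * c * s) * s = s * s * c * (s * s) by group, invol_sq hs, one_mul, mul_one]
    have := orderOf_dvd_sub_iff_zpow_eq_zpow (x := c) (a := j * j) (b := 1) |>.2 (by rw [e, zpow_one])
    rwa [hcord, Nat.cast_pow, Nat.cast_ofNat] at this
  have hc2 : ∀ a b : ℤ, (2 : ℤ) ^ (m + 1) ∣ a - b → c ^ (2 * a) = c ^ (2 * b) := fun a b hd => by
    rw [← orderOf_dvd_sub_iff_zpow_eq_zpow, hcord, Nat.cast_pow, Nat.cast_ofNat, pow_succ,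
      show 2 * a - 2 * b = (a - b) * 2 by ring]
    exact mul_dvd_mul_right hd 2
  rcases sq_one_mod_two_pow hjj with hj1 | hj1
  · exfalso
    have hcomm : Commute (c ^ (2 : ℤ)) s := by
      have e : s * c ^ (2 : ℤ) * s⁻¹ = c ^ (2 : ℤ) := by
        rw [hsj, mul_comm j 2, hc2 j 1 hj1, mul_one]
      exact (mul_inv_eq_iff_eq_mul.1 e).symm
    have hord : 4 ≤ orderOf (c ^ (2 : ℤ)) := by
      rw [show (2 : ℤ) = ((2 : ℕ) : ℤ) from rfl, zpow_natCast, orderOf_pow' _ two_ne_zero, hcord,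
        Nat.gcd_eq_right (dvd_pow_self 2 (by omega)), pow_succ, Nat.mul_div_cancel _ two_pos]
      exact le_trans (by norm_num) (Nat.pow_le_pow_right two_pos (show 2 ≤ m + 1 by omega))
    have hsz2 : orderOf (s * z) = 2 := orderOf_eq_prime (by
      rw [hsz.mul_pow, pow_two, pow_two, invol_sq hs, invol_sq hz, one_mul]) fun e => hne (by
      rw [eq_inv_of_mul_eq_one_left e, invol_inv hz])
    rcases hCV _ ((hmemT _).1 (hCT (zpow_mem (Subgroup.mem_zpowers c) _))) hcomm with e | e | e | e <;>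
      rw [e] at hord
    · rw [orderOf_one] at hord; omega
    · rw [hz] at hord; omega
    · rw [hs] at hord; omega
    · rw [hsz2] at hord; omega
  -- `s` inverts `c` up to `z`
  have hscs : s * c * s⁻¹ = c⁻¹ ∨ s * c * s⁻¹ = c⁻¹ * z := by
    obtain ⟨l, hl⟩ := hj1
    have hsplit : c ^ j = c⁻¹ * z' ^ l := by
      rw [hz'def, ← zpow_natCast, ← zpow_mul, ← zpow_neg_one, ← zpow_add,
        show j = -1 + (2 : ℤ) ^ (m + 1) * l by omega]
      norm_num
    rw [← hj, hsplit]
    rcases Int.even_or_odd' l with ⟨e, rfl | rfl⟩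
    · left; rw [zpow_mul, show z' ^ (2 : ℤ) = 1 by
        rw [show (2 : ℤ) = ((2 : ℕ) : ℤ) from rfl, zpow_natCast, ← hz', pow_orderOf_eq_one],
        one_zpow, mul_one]
    · right; rw [zpow_add, zpow_mul, show z' ^ (2 : ℤ) = 1 by
        rw [show (2 : ℤ) = ((2 : ℕ) : ℤ) from rfl, zpow_natCast, ← hz', pow_orderOf_eq_one],
        one_zpow, one_mul, zpow_one, hzz']
  -- `T` is a Sylow subgroup
  obtain ⟨P, hP⟩ := hTp.exists_le_sylow
  have hPT : (P : Subgroup G) = T := by
    refine le_antisymm (fun g hg => ?_) hP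
    have : Nontrivial (P : Subgroup G) :=
      (Subgroup.nontrivial_iff_ne_bot _).2 fun e => hz1 (Subgroup.mem_bot.1 (e ▸ hP hzT))
    obtain ⟨k, hk⟩ := IsPGroup.iff_card.1 (P.2.to_subgroup (Subgroup.center (P : Subgroup G)))
    have hcn := P.2.center_nontrivial
    have h1 : 1 < Nat.card (Subgroup.center (P : Subgroup G)) := Finite.one_lt_card
    obtain ⟨⟨⟨w, hwP⟩, hwc⟩, hw2⟩ := exists_prime_orderOf_dvd_card'
      (G := Subgroup.center (P : Subgroup G)) 2 (by
        rw [hk]; exact dvd_pow_self 2 (fun e => by rw [hk, e] at h1; omega))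
    rw [← Subgroup.orderOf_coe, ← Subgroup.orderOf_coe] at hw2
    have hwcomm : ∀ x ∈ (P : Subgroup G), Commute x w := fun x hx =>
      congrArg Subtype.val (Subgroup.mem_center_iff.1 hwc ⟨x, hx⟩)
    have hwz : w = z := by
      rcases hCV w (hwcomm z (hP hzT)).symm (hwcomm s (hP hsT)).symm with e | e | e | e
      · exact absurd e (invol_ne_one hw2)
      · exact e
      · exact absurd (e ▸ hwcomm r (hP hrT)) fun hc => hsr hc.symm
      · exfalso
        have hc : Commute r (s * z) := e ▸ hwcomm r (hP hrT)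
        refine hsr (Commute.symm ?_)
        have := hc.mul_right hrz
        rwa [mul_assoc, invol_sq hz, mul_one] at this
    exact (hmemT g).2 (hwz ▸ hwcomm g hg)
  -- all involutions are conjugate to `z`
  have hclass : ∀ v : G, orderOf v = 2 → ∃ g, g * v * g⁻¹ = z := by
    have hin : ∀ v ∈ T, orderOf v = 2 → ∃ g, g * v * g⁻¹ = z := by
      intro v hv hv2
      by_cases hvC : v ∈ C
      · exact ⟨1, by rw [one_mul, inv_one, mul_one, huniq v hvC hv2, hzz']⟩
      have hQi : C.relIndex (P : Subgroup G) = 2 := by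
        have hsub : C.subgroupOf T = C₀ := by
          ext g; rw [Subgroup.mem_subgroupOf, hCmem]
        rw [hPT, Subgroup.relIndex, hsub, hidx]
      rcases Cfsg.Agent.S0111.result P C (by rw [hPT]; exact hCT) hQi v hv2 (by rw [hPT]; exact hv)
        hvC with ⟨M, hM, hM2, -⟩ | ⟨g, hg⟩
      · exfalso
        rcases hM.eq_bot_or_eq_top with e | e
        · rw [e, Subgroup.index_bot] at hM2
          have := Subgroup.card_subgroup_dvd_card T
          rw [hM2] at this
          exact absurd (Nat.le_of_dvd two_pos this) (by omega)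
        · rw [e, Subgroup.index_top] at hM2; omega
      · exact ⟨g, (huniq _ hg (((MulAut.conj g).orderOf_eq v).trans hv2)).trans hzz'⟩
    intro v hv
    obtain ⟨P', hP'⟩ := (IsPGroup.of_card (n := 1)
      (show Nat.card (Subgroup.zpowers v) = 2 ^ 1 by rw [Nat.card_zpowers, hv, pow_one])).exists_le_sylow
    obtain ⟨g, hg⟩ := MulAction.exists_smul_eq G P' P
    have hgv : g * v * g⁻¹ ∈ T := by
      rw [← hPT, ← hg, Sylow.coe_subgroup_smul]
      exact ⟨v, hP' (Subgroup.mem_zpowers v), by simp⟩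
    obtain ⟨g', hg'⟩ := hin _ hgv (((MulAut.conj g).orderOf_eq v).trans hv)
    exact ⟨g' * g, by rw [← hg']; group⟩
  rcases hscs with hdih | hsd
  swap
  · -- semidihedral: the transfer into a subgroup of index two is nontrivial
    exfalso
    have hc2C : ∀ i : ℤ, c ^ (2 * i) ∈ C := fun i => zpow_mem (Subgroup.mem_zpowers c) _
    have hzeven : ∃ e : ℤ, z = c ^ (2 * e) := ⟨2 ^ m, by
      rw [← hzz', hz'def, ← zpow_natCast]; congr 1; push_cast; ring⟩
    have hsi : ∀ i : ℤ, s * c ^ i * s⁻¹ = c ^ (-i) * z ^ i := fun i => by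
      rw [← conj_zpow, hsd, (((hmemT c).1 hcT).inv_left).mul_zpow, inv_zpow, ← zpow_neg]
    have hseven : ∀ i : ℤ, s * c ^ (2 * i) * s⁻¹ = c ^ (-(2 * i)) := fun i => by
      rw [hsi, zpow_mul z, show z ^ (2 : ℤ) = 1 by
        rw [show (2 : ℤ) = ((2 : ℕ) : ℤ) from rfl, zpow_natCast, ← hz, pow_orderOf_eq_one],
        one_zpow, mul_one]
    let U : Subgroup T :=
      { carrier := {g | ∃ i : ℤ, (g : G) = c ^ (2 * i) ∨ (g : G) = s * c ^ (2 * i)}
        one_mem' := ⟨0, Or.inl (by simp)⟩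
        mul_mem' := by
          rintro a b ⟨i, ha⟩ ⟨k, hb⟩
          have hswap : c ^ (2 * i) * s = s * c ^ (-(2 * i)) := by
            rw [← hseven i, invol_inv hs, ← mul_assoc, ← mul_assoc, invol_sq hs, one_mul]
          rcases ha with ha | ha <;> rcases hb with hb | hb
          · exact ⟨i + k, Or.inl (by rw [Subgroup.coe_mul, ha, hb, mul_add, zpow_add])⟩
          · refine ⟨k - i, Or.inr ?_⟩
            rw [Subgroup.coe_mul, ha, hb, ← mul_assoc, hswap, mul_assoc, ← zpow_add]
            congr 2; ring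
          · exact ⟨i + k, Or.inr (by rw [Subgroup.coe_mul, ha, hb, mul_add, zpow_add, mul_assoc])⟩
          · refine ⟨k - i, Or.inl ?_⟩
            rw [Subgroup.coe_mul, ha, hb, mul_assoc, ← mul_assoc (c ^ (2 * i)), hswap, mul_assoc,
              ← zpow_add, ← mul_assoc, invol_sq hs, one_mul]
            congr 1; ring
        inv_mem' := by
          rintro a ⟨i, ha | ha⟩
          · exact ⟨-i, Or.inl (by rw [Subgroup.coe_inv, ha, mul_neg, zpow_neg])⟩
          · refine ⟨i, Or.inr ?_⟩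
            rw [Subgroup.coe_inv, ha, mul_inv_rev, invol_inv hs, ← zpow_neg, ← hseven, invol_inv hs]
            rw [mul_assoc, mul_assoc, invol_sq hs, mul_one] }
    have hodd : ∀ i : ℤ, ¬ ∃ k : ℤ, c ^ (2 * i + 1) = c ^ (2 * k) := by
      rintro i ⟨k, e⟩
      rw [← orderOf_dvd_sub_iff_zpow_eq_zpow, hcord] at e
      have h2 : ((2 : ℕ) : ℤ) ∣ ((2 ^ (m + 2) : ℕ) : ℤ) :=
        Int.natCast_dvd_natCast.2 (dvd_pow_self 2 (by omega))
      have := h2.trans e
      omega
    have hcU : (⟨c, hcT⟩ : T) ∉ U := by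
      rintro ⟨i, e | e⟩
      · exact hodd 0 ⟨i, by rw [mul_zero, zero_add, zpow_one]; exact e⟩
      · have e' : c = s * c ^ (2 * i) := e
        refine hsC ?_
        rw [show s = c * (c ^ (2 * i))⁻¹ from eq_mul_inv_of_mul_eq e'.symm]
        exact mul_mem (Subgroup.mem_zpowers c) (inv_mem (hc2C i))
    have hall : ∀ g : T, g ∈ U ∨ ∃ u ∈ U, (g : G) = c * u := by
      intro g
      rcases hTdec g g.2 with hg | ⟨y, hy, hg⟩
      · obtain ⟨i, hi⟩ := Subgroup.mem_zpowers_iff.1 hg
        rcases Int.even_or_odd' i with ⟨k, rfl | rfl⟩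
        · exact Or.inl ⟨k, Or.inl hi.symm⟩
        · refine Or.inr ⟨⟨c ^ (2 * k), hCT (hc2C k)⟩, ⟨k, Or.inl rfl⟩, ?_⟩
          rw [← hi]; show _ = c * c ^ (2 * k)
          rw [add_comm, zpow_add, zpow_one]
      · obtain ⟨i, hi⟩ := Subgroup.mem_zpowers_iff.1 hy
        rcases Int.even_or_odd' i with ⟨k, rfl | rfl⟩
        · exact Or.inl ⟨k, Or.inr (by rw [hg, hi])⟩
        · obtain ⟨e, he⟩ := hzeven
          refine Or.inr ⟨⟨s * c ^ (2 * (k + 1 + e)), mul_mem hsT (hCT (hc2C _))⟩,
            ⟨k + 1 + e, Or.inr rfl⟩, ?_⟩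
          rw [hg, ← hi]
          show s * c ^ (2 * k + 1) = c * (s * c ^ (2 * (k + 1 + e)))
          have hcs : c * s = s * (c⁻¹ * z) := by
            rw [← hsd, invol_inv hs, ← mul_assoc, ← mul_assoc, invol_sq hs, one_mul]
          rw [← mul_assoc c, hcs, mul_assoc s, ← zpow_neg_one, he, ← zpow_add, ← zpow_add]
          congr 1
          rw [← orderOf_dvd_sub_iff_zpow_eq_zpow, hcord]
          have hez : ((2 ^ (m + 2) : ℕ) : ℤ) ∣ 2 * e * 2 := by
            rw [← hcord, orderOf_dvd_iff_zpow_eq_one, zpow_mul, ← he,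
              show (2 : ℤ) = ((2 : ℕ) : ℤ) from rfl, zpow_natCast, ← hz, pow_orderOf_eq_one]
          refine hez.neg_right.trans (dvd_of_eq ?_)
          ring
    have hUidx : U.index = 2 := by
      rw [Subgroup.index_eq_two_iff]
      refine ⟨⟨c, hcT⟩⁻¹, fun b => ?_⟩
      by_cases hb : b ∈ U
      · refine Or.inr ⟨hb, fun hbc => hcU ?_⟩
        have := mul_mem (inv_mem hbc) hb
        simpa using this
      · rcases hall b with hb' | ⟨u, hu, e⟩
        · exact absurd hb' hb
        · refine Or.inl ⟨?_, hb⟩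
          have hbeq : b = ⟨c, hcT⟩ * u := Subtype.ext e
          subst hbeq
          by_contra hcon
          have : U.Normal := by
            refine ⟨fun y hy g => ?_⟩
            rcases hall g with hg | ⟨w, hw, eg⟩
            · exact mul_mem (mul_mem hg hy) (inv_mem hg)
            · have hg' : g = ⟨c, hcT⟩ * w := Subtype.ext eg
              subst hg'
              have hin : w * y * w⁻¹ ∈ U := mul_mem (mul_mem hw hy) (inv_mem hw)
              obtain ⟨i, hi⟩ := hin
              have key : ∀ v : T, (∃ i : ℤ, (v : G) = c ^ (2 * i) ∨ (v : G) = s * c ^ (2 * i)) →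
                  (⟨c, hcT⟩ : T) * v * ⟨c, hcT⟩⁻¹ ∈ U := by
                rintro v ⟨i, e | e⟩
                · exact ⟨i, Or.inl (by
                    show c * (v : G) * c⁻¹ = _
                    rw [e, ← zpow_one_add, ← zpow_sub_one]
                    congr 1; ring)⟩
                · obtain ⟨e₂, he₂⟩ := hzeven
                  refine ⟨i + e₂ - 1, Or.inr ?_⟩
                  show c * (v : G) * c⁻¹ = _
                  have hcs : c * s = s * (c⁻¹ * z) := by
                    rw [← hsd, invol_inv hs, ← mul_assoc, ← mul_assoc, invol_sq hs, one_mul]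
                  rw [e, ← mul_assoc c, hcs, mul_assoc, mul_assoc, ← zpow_neg_one, he₂, ← zpow_add,
                    ← zpow_add, ← zpow_add]
                  congr 2; ring
              have := key _ ⟨i, hi⟩
              rwa [show (⟨c, hcT⟩ : T) * (w * y * w⁻¹) * ⟨c, hcT⟩⁻¹ =
                ⟨c, hcT⟩ * w * y * (⟨c, hcT⟩ * w)⁻¹ by group] at this
          apply hcon
          have hconj := Subgroup.Normal.conj_mem this u hu ⟨c, hcT⟩
          rwa [show (⟨c, hcT⟩ : T) * u * ⟨c, hcT⟩⁻¹ = ⟨c, hcT⟩ * u * ⟨c, hcT⟩⁻¹ from rfl] at hconj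
    let χ : T →* ℤˣ := MonoidHom.mk' (fun g => if g ∈ U then 1 else -1) fun a b => by
      have := Subgroup.mul_mem_iff_of_index_two (a := a) (b := b) hUidx
      by_cases ha : a ∈ U <;> by_cases hb : b ∈ U <;> simp [ha, hb, this]
    have hinvU : ∀ v : T, (v : G) ≠ 1 → (v : G) * v = 1 → v ∈ U := by
      intro v hv1 hvv
      rcases hTdec v v.2 with hv | ⟨y, hy, hv⟩
      · obtain ⟨e, he⟩ := hzeven
        exact ⟨e, Or.inl (by
          rw [← he, ← hzz']
          exact huniq _ hv (orderOf_eq_prime (by rw [pow_two, hvv]) hv1))⟩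
      · obtain ⟨i, hi⟩ := Subgroup.mem_zpowers_iff.1 hy
        rw [hv, ← hi] at hvv
        have e : s * c ^ i * (s * c ^ i) = s * c ^ i * s⁻¹ * c ^ i := by
          rw [invol_inv hs]; simp only [mul_assoc]
        rw [e, hsi, mul_assoc, (((hmemT _).1 (hCT (zpow_mem (Subgroup.mem_zpowers c) i))).symm.zpow_left i).eq,
          ← mul_assoc, ← zpow_add, neg_add_cancel, zpow_zero, one_mul,
          ← orderOf_dvd_iff_zpow_eq_one, hz] at hvv
        obtain ⟨k, rfl⟩ := hvv
        exact ⟨k, Or.inr (by rw [hv, ← hi]; norm_num)⟩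
    have hroot : ∀ v : T, ∀ l : ℕ, orderOf (v : G) = 2 ^ (l + 2) → (v : G) ^ 2 ^ (l + 1) = z := by
      intro v l hl
      have ho : orderOf ((v : G) ^ 2 ^ (l + 1)) = 2 := by
        rw [orderOf_pow' _ (by positivity), hl,
          Nat.gcd_eq_right (pow_dvd_pow 2 (by omega : l + 1 ≤ l + 2)), pow_succ 2 (l + 1),
          Nat.mul_div_cancel_left _ (by positivity)]
      rcases hTdec v v.2 with hv | ⟨y, hy, hv⟩
      · exact (huniq _ (pow_mem hv _) ho).trans hzz'
      · obtain ⟨i, hi⟩ := Subgroup.mem_zpowers_iff.1 hy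
        have hsq : (v : G) ^ 2 = z ^ i := by
          rw [pow_two, hv, ← hi, show s * c ^ i * (s * c ^ i) = s * c ^ i * s⁻¹ * c ^ i by
            rw [invol_inv hs]; simp only [mul_assoc], hsi, mul_assoc,
            (((hmemT _).1 (hCT (zpow_mem (Subgroup.mem_zpowers c) i))).symm.zpow_left i).eq,
            ← mul_assoc, ← zpow_add, neg_add_cancel, zpow_zero, one_mul]
        have hmem : (v : G) ^ 2 ^ (l + 1) ∈ C := by
          rw [pow_succ', pow_mul, hsq]
          exact pow_mem (zpow_mem hzC i) _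
        exact (huniq _ hmem ho).trans hzz'
    have hne1 : MonoidHom.transfer χ c ≠ 1 := by
      refine CfsgLib.Invol.transfer_ne_one χ (p := 2) ?_ hcT hcord ?_ ?_
      · rw [← hPT]
        exact (Nat.Prime.coprime_iff_not_dvd Nat.prime_two).2 P.not_dvd_index
      · show (if _ then (1 : ℤˣ) else -1) ≠ 1
        rw [if_neg hcU]; decide
      · intro k g₀ hk
        rw [← map_pow]
        set y : T := ⟨_, hk⟩
        set x : T := (⟨c, hcT⟩ : T) ^ k
        have hxy : (y : G) = g₀⁻¹ * (x : G) * g₀⁻¹⁻¹ := by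
          rw [inv_inv]; simp [x, y]
        have hord : orderOf (y : G) = orderOf (x : G) := by
          rw [hxy]; exact (MulAut.conj g₀⁻¹).orderOf_eq _
        obtain ⟨l, hl⟩ := hTp.exists_orderOf_eq_pow x
        rw [← Subgroup.orderOf_coe] at hl
        rcases l with _ | _ | l
        · rw [pow_zero, orderOf_eq_one_iff] at hl
          have : y = 1 := Subtype.ext (by rw [hxy, hl]; simp)
          rw [this, show x = 1 from Subtype.ext hl]
        · have hU : ∀ v : T, orderOf (v : G) = 2 → v ∈ U := fun v hv =>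
            hinvU v (invol_ne_one hv) (invol_sq hv)
          show (if _ then (1 : ℤˣ) else -1) = if _ then (1 : ℤˣ) else -1
          rw [if_pos (hU y (by rw [hord, hl]; rfl)), if_pos (hU x (by rw [hl]; rfl))]
        · have hgz : g₀⁻¹ * z * g₀⁻¹⁻¹ = z := by
            have e1 := hroot x l hl
            have e2 := hroot y l (hord.trans hl)
            rwa [hxy, conj_pow, e1] at e2
          have hg₀ : g₀⁻¹ ∈ T := (hmemT _).2 (mul_inv_eq_iff_eq_mul.1 hgz)
          have : y = ⟨g₀⁻¹, hg₀⟩ * x * ⟨g₀⁻¹, hg₀⟩⁻¹ := Subtype.ext hxy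
          rw [this, map_mul, map_mul, map_inv, mul_comm, ← mul_assoc, inv_mul_cancel, one_mul]
    refine hne1 ?_
    have hker : commutator G ≤ (MonoidHom.transfer χ).ker :=
      Abelianization.commutator_subset_ker _
    rw [h.perfect] at hker
    exact MonoidHom.mem_ker.1 (hker (Subgroup.mem_top c))
  -- dihedral: Brauer–Suzuki–Wall
  have hKab : IsMulCommutative C := by
    refine ⟨⟨fun a b => Subtype.ext ?_⟩⟩
    obtain ⟨i, hi⟩ := Subgroup.mem_zpowers_iff.1 a.2
    obtain ⟨k, hk⟩ := Subgroup.mem_zpowers_iff.1 b.2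
    show (a : G) * b = b * a
    rw [← hi, ← hk]
    exact ((Commute.refl c).zpow_zpow i k).eq
  have hinv : ∀ x ∈ C, s * x * s⁻¹ = x⁻¹ := by
    intro x hx
    obtain ⟨i, rfl⟩ := Subgroup.mem_zpowers_iff.1 hx
    rw [← conj_zpow, hdih, inv_zpow]
  have hsup : C ⊔ Subgroup.zpowers s = T := by
    refine le_antisymm (sup_le hCT (Subgroup.zpowers_le.2 hsT)) fun g hg => ?_
    rcases hTdec g hg with hg' | ⟨y, hy, rfl⟩
    · exact Subgroup.mem_sup_left hg'
    · exact mul_mem (Subgroup.mem_sup_right (Subgroup.mem_zpowers s)) (Subgroup.mem_sup_left hy)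
  have hCK : C ⊓ Subgroup.centralizer ({s} : Set G) = Subgroup.zpowers z := by
    refine le_antisymm ?_ (Subgroup.zpowers_le.2 ⟨hzC, mem_centralizer_of_commute hsz.symm⟩)
    rintro x ⟨hxC, hxs⟩
    have e := hinv x hxC
    rw [← (show Commute x s from Subgroup.mem_centralizer_singleton_iff.1 hxs).eq,
      mul_inv_cancel_right] at e
    by_cases hx1 : x = 1
    · rw [hx1]; exact one_mem _
    · rw [huniq x hxC (orderOf_eq_prime (by rw [pow_two]; nth_rw 1 [e]; exact inv_mul_cancel x) hx1),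
        hzz']
      exact Subgroup.mem_zpowers z
  have hTI : ∀ g : G, g ∉ T → C ⊓ C.map (MulAut.conj g).toMonoidHom = ⊥ := by
    intro g hg
    by_contra hne'
    set I := C ⊓ C.map (MulAut.conj g).toMonoidHom
    obtain ⟨k, hk⟩ := IsPGroup.iff_card.1 (hTp.to_le ((inf_le_left : I ≤ C).trans hCT))
    have h1 : 1 < Nat.card I := (Subgroup.one_lt_card_iff_ne_bot I).2 hne'
    obtain ⟨⟨v, hvC, w, hwC, hwv⟩, hv2⟩ := exists_prime_orderOf_dvd_card' (G := I) 2 (by
      rw [hk]; exact dvd_pow_self 2 (fun e => by rw [hk, e] at h1; omega))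
    rw [← Subgroup.orderOf_coe] at hv2
    have hwv' : g * w * g⁻¹ = v := hwv
    have hw2 : orderOf w = 2 := by
      rw [← hv2]; show orderOf w = orderOf v; rw [← hwv']; exact ((MulAut.conj g).orderOf_eq w).symm
    rw [(huniq w hwC hw2).trans hzz', (huniq v hvC hv2).trans hzz'] at hwv'
    exact hg ((hmemT g).2 (mul_inv_eq_iff_eq_mul.1 hwv'))
  have hconj : ∀ x y : G, orderOf x = 2 → orderOf y = 2 → IsConj x y := fun x y hx hy => by
    obtain ⟨g, hg⟩ := hclass x hx
    obtain ⟨g', hg'⟩ := hclass y hy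
    exact (isConj_iff.2 ⟨g, hg⟩).trans (isConj_iff.2 ⟨g', hg'⟩).symm
  have h12 : 12 < Nat.card G := by
    have h1 := Nat.le_of_dvd Nat.card_pos (Subgroup.card_subgroup_dvd_card T)
    rw [hn] at h1
    have : 2 ^ 4 ≤ 2 ^ (m + 3) := Nat.pow_le_pow_right two_pos (by omega)
    omega
  obtain ⟨Q, D, hcard, hCQ, -, hD, hQD, hNQ, hX⟩ :=
    Cfsg.Agent.S3282.result z hz C hKab hCT hzC s hs hsT hsC hsup hCK hinv hTI hconj
  exact h.card_of_bsw h12 hcard hCQ hD hQD hNQ hX

end Ctx

end CfsgLib.Recog.EPPOSeven
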