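import Cfsg.Agent.Lib.Recog.EPPOSeven.Strong
import Cfsg.Agent.Lib.Solvable.Nilpotent

/-!
The shape of a soluble strongly embedded subgroup.
-/

set_option autoImplicit false

namespace CfsgLib.Recog.EPPOSeven

open Subgroup

universe u

namespace Ctx

variable {G : Type u} [Group G] [Finite G]

/-- A soluble strongly embedded subgroup is a 2-group extended by a self-normalising subgroup of
prime order permuting its involutions regularly. -/
structure Shape (K : Subgroup G) where
  p : ℕ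
  hp : p.Prime
  hp2 : p ≠ 2
  x : G
  xK : x ∈ K
  hx : orderOf x = p
  card_invol : Nat.card {t : G // orderOf t = 2 ∧ t ∈ K} = p
  hcard : ∃ i : ℕ, Nat.card K = 2 ^ i * p
  norm_x : ∀ g ∈ K, g * x * g⁻¹ ∈ Subgroup.zpowers x → g ∈ Subgroup.zpowers x
  conj_x : ∀ y ∈ K, orderOf y = p → ∃ k ∈ K, k * y * k⁻¹ ∈ Subgroup.zpowers x

theorem shape (h : Ctx G) {K : Subgroup G} (hK : Cfsg.IsStronglyEmbedded K) :
    Nonempty (Shape K) := by
  classical
  have hs := h.se_solvable hK
  have : Fact (Nat.Prime 2) := ⟨Nat.prime_two⟩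
  have hSK : Spec K := h.spec.subgroup K
  obtain ⟨a, b, haK, hbK, ha, hb, hab, hne⟩ := h.se_four hK
  set a' : K := ⟨a, haK⟩
  set b' : K := ⟨b, hbK⟩
  have ha' : orderOf a' = 2 := by rw [← Subgroup.orderOf_coe]; exact ha
  have hb' : orderOf b' = 2 := by rw [← Subgroup.orderOf_coe]; exact hb
  have hKnt : Nontrivial K := ⟨a', b', fun e => hne (congrArg Subtype.val e)⟩
  set Q : Subgroup K := Cfsg.pCore 2 K with hQdef
  have hQn : Q.Normal := CfsgLib.Solvable.pCore_normal 2 K
  have hQp : IsPGroup 2 Q := CfsgLib.Solvable.pCore_isPGroup 2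
  have hQne : Q ≠ ⊥ := by
    obtain ⟨M, hMn, hMb, hMmin⟩ := CfsgLib.Solvable.exists_minimal_normal (G := K)
    obtain ⟨p, hp, hMp, -, -⟩ := CfsgLib.Solvable.exists_isPGroup_of_minimal_normal hMb hMmin
    by_cases hp2 : p = 2
    · subst hp2
      intro e
      exact hMb (le_bot_iff.1 (e ▸ CfsgLib.Solvable.le_pCore hMn hMp))
    · have := Fact.mk hp
      obtain ⟨n, hn⟩ := IsPGroup.iff_card.1 hMp
      exact (hSK.klein_contra ha' hb' (Subtype.ext hab) (fun e => hne (congrArg Subtype.val e))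
        hMb (hn ▸ (hp.odd_of_ne_two hp2).pow)
        (by rw [Subgroup.normalizer_eq_top]; trivial)
        (by rw [Subgroup.normalizer_eq_top]; trivial)).elim
  obtain ⟨S', hS'⟩ := hQp.exists_le_sylow
  have : Group.IsNilpotent (S' : Subgroup K) := S'.isPGroup'.isNilpotent
  have : (Q.subgroupOf (S' : Subgroup K)).Normal := Subgroup.Normal.subgroupOf hQn _
  have hint : (Q.subgroupOf (S' : Subgroup K)) ⊓ Subgroup.center _ ≠ ⊥ :=
    CfsgLib.Solvable.normal_inf_center_ne_bot _ (fun e => hQne (by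
      rw [Subgroup.subgroupOf_eq_bot, disjoint_comm, disjoint_iff] at e
      rw [← e, inf_eq_right.2 hS']))
  obtain ⟨t₀, ht₀, ht₀Q, ht₀c⟩ : ∃ t : K, orderOf t = 2 ∧ t ∈ Q ∧
      ∀ g ∈ (S' : Subgroup K), g * t = t * g := by
    set Z := (Q.subgroupOf (S' : Subgroup K)) ⊓ Subgroup.center _ with hZ
    have hZp : IsPGroup 2 Z := S'.isPGroup'.to_subgroup Z
    obtain ⟨n, hn⟩ := IsPGroup.iff_card.1 hZp
    have h1 : 1 < Nat.card Z := (Subgroup.one_lt_card_iff_ne_bot Z).2 hint
    obtain ⟨⟨w, hw⟩, hwo⟩ := exists_prime_orderOf_dvd_card' (G := Z) 2 (by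
      rw [hn]; exact dvd_pow_self 2 (fun e => by rw [hn, e] at h1; omega))
    rw [Subgroup.orderOf_mk] at hwo
    exact ⟨w.1, by rw [Subgroup.orderOf_coe]; exact hwo, Subgroup.mem_subgroupOf.1 hw.1,
      fun g hg => congrArg Subtype.val (Subgroup.mem_center_iff.1 hw.2 ⟨g, hg⟩)⟩
  have hconj : ∀ v : K, orderOf v = 2 → ∃ k : K, k * t₀ * k⁻¹ = v := fun v hv => by
    obtain ⟨k, hk, hkv⟩ := h.se_conj hK t₀.2 (by rw [Subgroup.orderOf_coe]; exact ht₀) v.2
      (by rw [Subgroup.orderOf_coe]; exact hv)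
    exact ⟨⟨k, hk⟩, Subtype.ext hkv⟩
  have hinv : ∀ v : K, orderOf v = 2 → v ∈ Q ∧ ∀ q ∈ Q, q * v = v * q := by
    intro v hv
    obtain ⟨k, rfl⟩ := hconj v hv
    refine ⟨hQn.conj_mem _ ht₀Q k, fun q hq => ?_⟩
    have hq' : k⁻¹ * q * k ∈ Q := by simpa using hQn.conj_mem q hq k⁻¹
    have hcomm := ht₀c _ (hS' hq')
    calc q * (k * t₀ * k⁻¹) = k * (k⁻¹ * q * k * t₀) * k⁻¹ := by group
      _ = k * (t₀ * (k⁻¹ * q * k)) * k⁻¹ := by rw [hcomm]
      _ = k * t₀ * k⁻¹ * q := by group
  let V : Subgroup K :=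
    { carrier := {v | v * v = 1}
      one_mem' := one_mul 1
      mul_mem' := fun {u w} (hu : u * u = 1) (hw : w * w = 1) => by
        show u * w * (u * w) = 1
        by_cases hu1 : u = 1
        · rw [hu1, one_mul, hw]
        by_cases hw1 : w = 1
        · rw [hw1, mul_one, hu]
        have h2u := orderOf_eq_prime (p := 2) (by rw [pow_two, hu]) hu1
        have h2w := orderOf_eq_prime (p := 2) (by rw [pow_two, hw]) hw1
        have hc : Commute w u := (hinv u h2u).2 w (hinv w h2w).1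
        rw [mul_assoc, ← mul_assoc w u, hc.eq, mul_assoc u w w, hw, mul_one, hu]
      inv_mem' := fun {u} (hu : u * u = 1) => by
        show u⁻¹ * u⁻¹ = 1
        rw [← mul_inv_rev, hu, inv_one] }
  have hVp : IsPGroup 2 V := fun v => ⟨1, Subtype.ext (by
    show (v : K) ^ 2 ^ 1 = 1
    rw [pow_one, pow_two]; exact v.2)⟩
  have hVc : IsMulCommutative V := ⟨⟨fun u w => Subtype.ext (by
    have h' : (u : K) * w * (u * w) = 1 := (u * w).2
    show (u : K) * w = w * u
    have hu : (u : K)⁻¹ = u := inv_eq_of_mul_eq_one_left u.2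
    have hw : (w : K)⁻¹ = w := inv_eq_of_mul_eq_one_left w.2
    rw [eq_inv_of_mul_eq_one_left h', mul_inv_rev, hu, hw])⟩⟩
  have hV1 : V ≠ ⊥ := fun e => by
    have : t₀ ∈ V := invol_sq ht₀
    rw [e, Subgroup.mem_bot] at this
    exact invol_ne_one ht₀ this
  have hVn : (⊤ : Subgroup K) ≤ Subgroup.normalizer (V : Set K) := fun g _ =>
    Subgroup.mem_normalizer_fintype fun v (hv : v * v = 1) => by
      show g * v * g⁻¹ * (g * v * g⁻¹) = 1
      rw [show g * v * g⁻¹ * (g * v * g⁻¹) = g * (v * v) * g⁻¹ by group, hv, mul_one, mul_inv_cancel]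
  -- the odd prime
  obtain ⟨i, hi⟩ := IsPGroup.iff_card.1 S'.isPGroup'
  obtain ⟨p, hp, hp2, hpd⟩ : ∃ p : ℕ, p.Prime ∧ p ≠ 2 ∧ p ∣ Nat.card K := by
    by_contra hc
    push Not at hc
    have hpg : IsPGroup 2 K := by
      refine IsPGroup.of_card (n := (Nat.card K).factorization 2) ?_
      conv_lhs => rw [← Nat.prod_factorization_pow_eq_self (Nat.card_pos (α := K)).ne']
      rw [Finsupp.prod_of_support_subset _ (s := {2}) ?_ _ (fun i _ => pow_zero i)]
      · simp
      intro q hq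
      rw [Nat.support_factorization] at hq
      by_contra hq2
      exact hc q (Nat.prime_of_mem_primeFactors hq) (by simpa using hq2)
        (Nat.dvd_of_mem_primeFactors hq)
    have htop : (S' : Subgroup K) = ⊤ :=
      ((S'.3 (Q := ⊤) (hpg.to_subgroup ⊤) le_top)).symm
    obtain ⟨k₁, hk₁⟩ := hconj a' ha'
    obtain ⟨k₂, hk₂⟩ := hconj b' hb'
    have hall : ∀ k : K, k * t₀ * k⁻¹ = t₀ := fun k => by
      rw [ht₀c k (htop ▸ Subgroup.mem_top k), mul_inv_cancel_right]
    rw [hall] at hk₁ hk₂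
    exact hne (congrArg Subtype.val (hk₁.symm.trans hk₂))
  have := Fact.mk hp
  have hp2' : ¬ p ^ 2 ∣ Nat.card K := by
    have := hSK.sq_not_dvd (p := p) hp2 hVp hVc hV1 hVn
    rwa [Subgroup.card_top] at this
  have hcard : Nat.card K = 2 ^ i * p := by
    have hne0 : Nat.card K ≠ 0 := Nat.card_pos.ne'
    have hfac : Nat.card K = 2 ^ (Nat.card K).factorization 2 * p ^ (Nat.card K).factorization p := by
      conv_lhs => rw [← Nat.prod_factorization_pow_eq_self hne0]
      rw [Finsupp.prod_of_support_subset _ (s := {2, p}) ?_ _ (fun i _ => pow_zero i),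
        Finset.prod_pair (Ne.symm hp2)]
      intro q hq
      rw [Nat.support_factorization] at hq
      by_contra hq2
      simp only [Finset.mem_insert, Finset.mem_singleton, not_or] at hq2
      exact h.spec.no_three_primes K (Nat.prime_of_mem_primeFactors hq) Nat.prime_two hp hq2.1
        hq2.2 (Ne.symm hp2) (Nat.dvd_of_mem_primeFactors hq) (even_iff_two_dvd.1 hK.2.1) hpd
    have h1 : (Nat.card K).factorization p = 1 := by
      have hpos := hp.factorization_pos_of_dvd hne0 hpd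
      by_contra hcon
      exact hp2' ((Nat.pow_dvd_pow p (show 2 ≤ (Nat.card K).factorization p by omega)).trans
        (Nat.ordProj_dvd _ p))
    have h2 : (Nat.card K).factorization 2 = i := by
      have := S'.card_eq_multiplicity
      rw [hi] at this
      exact (Nat.pow_right_injective le_rfl this).symm
    rw [hfac, h1, h2, pow_one]
  have hC : Subgroup.centralizer ({t₀} : Set K) = (S' : Subgroup K) :=
    S'.3 (hSK.isPGroup_centralizer ht₀) fun g hg => mem_centralizer_of_commute (ht₀c g hg)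
  have hcount : Nat.card {v : K // orderOf v = 2} = p := by
    have := EPOFive.card_conj_invol t₀ ht₀ hconj
    rw [hC, hi, hcard, mul_comm (2 ^ i) p] at this
    exact Nat.eq_of_mul_eq_mul_right (by positivity) this
  obtain ⟨x, hx⟩ := exists_prime_orderOf_dvd_card' (G := K) p hpd
  set X := Subgroup.zpowers x with hX
  have hXc : Nat.card X = p := by rw [hX, Nat.card_zpowers, hx]
  have hnormX : ∀ g : K, g ∈ Subgroup.normalizer (X : Set K) → g ∈ X := by
    intro g hg
    set N := Subgroup.normalizer (X : Set K)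
    have hXN : X ≤ N := Subgroup.le_normalizer
    have hodd : Odd (Nat.card N) := by
      rw [← Nat.not_even_iff_odd, even_iff_two_dvd]
      intro hd
      obtain ⟨⟨u, huN⟩, hu⟩ := exists_prime_orderOf_dvd_card' (G := N) 2 hd
      rw [Subgroup.orderOf_mk] at hu
      have huQ := (hinv u hu).1
      have h1 : u * x * u⁻¹ * x⁻¹ ∈ Q := by
        rw [show u * x * u⁻¹ * x⁻¹ = u * (x * u⁻¹ * x⁻¹) by group]
        exact mul_mem huQ (hQn.conj_mem _ (inv_mem huQ) x)
      have h2 : u * x * u⁻¹ * x⁻¹ ∈ X :=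
        mul_mem ((Subgroup.mem_normalizer_iff.1 huN x).1 (Subgroup.mem_zpowers x))
          (inv_mem (Subgroup.mem_zpowers x))
      have h3 : u * x * u⁻¹ * x⁻¹ = 1 := by
        obtain ⟨j, hj⟩ := hQp.exists_orderOf_eq_pow ⟨_, h1⟩
        have hd3 := orderOf_dvd_natCard (⟨_, h2⟩ : X)
        rw [hXc, Subgroup.orderOf_mk] at hd3
        rw [Subgroup.orderOf_mk] at hj
        rw [← orderOf_eq_one_iff, hj]
        rw [hj] at hd3
        exact Nat.eq_one_of_dvd_coprimes (((Nat.coprime_primes Nat.prime_two hp).2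
          (Ne.symm hp2)).pow_left j) dvd_rfl hd3
      have hc : Commute u x := mul_inv_eq_iff_eq_mul.1 (mul_inv_eq_one.1 h3)
      have := hSK.eq_one_of_commute hc (invol_ne_one hu)
        (by rw [hu, hx]; exact (Nat.coprime_primes Nat.prime_two hp).2 (Ne.symm hp2))
      rw [this, orderOf_one] at hx
      exact hp.ne_one hx.symm
    have hd : Nat.card N ∣ p := by
      have hd := Subgroup.card_subgroup_dvd_card N
      rw [hcard] at hd
      exact Nat.Coprime.dvd_of_dvd_mul_left ((Nat.coprime_two_right.2 hodd).pow_right i) hd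
    have hXeq : X = N := Subgroup.eq_of_le_of_card_ge hXN (by
      rw [hXc]; exact Nat.le_of_dvd hp.pos hd)
    exact hXeq ▸ hg
  refine ⟨{
    p := p
    hp := hp
    hp2 := hp2
    x := x
    xK := x.2
    hx := by rw [Subgroup.orderOf_coe]; exact hx
    card_invol := ?_
    hcard := ⟨i, hcard⟩
    norm_x := fun g hgK hg => ?_
    conj_x := fun y hyK hy => ?_ }⟩
  · rw [← hcount]
    exact Nat.card_congr
      { toFun := fun v => ⟨⟨v.1, v.2.2⟩, by rw [← Subgroup.orderOf_coe]; exact v.2.1⟩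
        invFun := fun v => ⟨v.1, by rw [Subgroup.orderOf_coe]; exact v.2, v.1.2⟩
        left_inv := fun v => rfl
        right_inv := fun v => rfl }
  · have hmem : (⟨g, hgK⟩ : K) ∈ Subgroup.normalizer (X : Set K) := by
      refine Subgroup.mem_normalizer_fintype fun y hy => ?_
      obtain ⟨j, rfl⟩ := Subgroup.mem_zpowers_iff.1 hy
      rw [← conj_zpow]
      refine zpow_mem ?_ j
      obtain ⟨n, hn⟩ := Subgroup.mem_zpowers_iff.1 hg
      exact ⟨n, Subtype.ext (by simpa using hn)⟩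
    obtain ⟨n, hn⟩ := Subgroup.mem_zpowers_iff.1 (hnormX _ hmem)
    exact ⟨n, by simpa using congrArg Subtype.val hn⟩
  · have hy' : orderOf (⟨y, hyK⟩ : K) = p := by rw [← Subgroup.orderOf_coe]; exact hy
    have hsyl : ∀ z : K, orderOf z = p →
        ∃ P : Sylow p K, Subgroup.zpowers z = (P : Subgroup K) := fun z hz => by
      obtain ⟨P, hP⟩ := (IsPGroup.of_card (n := 1)
        (show Nat.card (Subgroup.zpowers z) = p ^ 1 by rw [Nat.card_zpowers, hz, pow_one])).exists_le_sylow
      refine ⟨P, Subgroup.eq_of_le_of_card_ge hP ?_⟩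
      obtain ⟨n, hn⟩ := IsPGroup.iff_card.1 P.isPGroup'
      have hn1 : n ≤ 1 := by
        by_contra hcon
        exact hp2' ((Nat.pow_dvd_pow p (show 2 ≤ n by omega)).trans
          (hn ▸ Subgroup.card_subgroup_dvd_card _))
      rw [Nat.card_zpowers, hz, hn]
      exact (Nat.pow_le_pow_right hp.pos hn1).trans (by rw [pow_one])
    obtain ⟨P, hP⟩ := hsyl _ hy'
    obtain ⟨P', hP'⟩ := hsyl x hx
    obtain ⟨k, hk⟩ := MulAction.exists_smul_eq K P P'
    refine ⟨k, k.2, ?_⟩
    have hm : k * ⟨y, hyK⟩ * k⁻¹ ∈ X := by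
      rw [hX, hP', ← hk, Sylow.coe_subgroup_smul]
      refine ⟨_, hP ▸ Subgroup.mem_zpowers _, ?_⟩
      simp
    obtain ⟨n, hn⟩ := Subgroup.mem_zpowers_iff.1 hm
    exact ⟨n, by simpa using congrArg Subtype.val hn⟩

end Ctx

end CfsgLib.Recog.EPPOSeven
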