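import Cfsg.Agent.Lib.Recog.EPPOSeven.Strong
import Cfsg.Agent.Lib.Classical.PSLTwoPerm
import Cfsg.Agent.Lib.Char.Burnside
import Cfsg.Agent.S0340
import Cfsg.Agent.S2475

/-!
Zassenhaus groups with our spectrum.
-/

set_option autoImplicit false

namespace CfsgLib.Recog.EPPOSeven

open Subgroup MulAction

universe u

theorem two_pow_or_prime {n : ℕ} (h : n = 1 ∨ (∃ k, n = 2 ^ k) ∨ (n.Prime ∧ n ≠ 5)) {q : ℕ}
    (hq : q.Prime) (hq2 : q ≠ 2) (hd : q ∣ n) : n = q ∧ n ≠ 5 := by
  rcases h with h | ⟨k, h⟩ | ⟨h, h5⟩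
  · subst h
    exact absurd (Nat.eq_one_of_dvd_one hd) hq.ne_one
  · subst h
    exact absurd ((Nat.prime_dvd_prime_iff_eq hq Nat.prime_two).1 (hq.dvd_of_dvd_pow hd)) hq2
  · exact ⟨((Nat.prime_dvd_prime_iff_eq hq h).1 hd).symm, h5⟩

/-- Two powers of two differing by two. -/
theorem pow_sub_two {i j : ℕ} (h : 2 ^ j = 2 ^ i + 2) : i = 1 := by
  rcases i with _ | _ | i
  · exfalso
    rcases j with _ | j
    · simp at h
    · rw [pow_succ] at h; omega
  · rfl
  · exfalso
    have h4 : 2 ^ j % 4 = 2 := by rw [h, pow_succ, pow_succ]; omega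
    rcases j with _ | _ | j
    · simp at h4
    · simp at h
    · rw [pow_succ, pow_succ] at h4; omega

theorem psl_arith {q p n : ℕ} (hp : p.Prime) (hn : 0 < n) (hq : q = p ^ n) (h4 : 4 ≤ q)
    (hA : ∀ m, m = p ∨ m = (q - 1) / Nat.gcd 2 (q - 1) ∨ m = (q + 1) / Nat.gcd 2 (q - 1) →
      m = 1 ∨ (∃ k, m = 2 ^ k) ∨ (m.Prime ∧ m ≠ 5)) : q = 7 := by
  have hp5 : p ≠ 5 := fun e => (two_pow_or_prime (hA p (Or.inl rfl)) hp (by omega) dvd_rfl).2 e
  by_cases h2 : p = 2
  · exfalso
    subst h2
    have he : q % 2 = 0 := by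
      rw [hq, ← Nat.succ_pred_eq_of_pos hn, pow_succ]; omega
    have hg : Nat.gcd 2 (q - 1) = 1 :=
      Nat.coprime_two_left.2 (Nat.odd_iff.2 (by omega))
    have ha := hA (q - 1) (Or.inr (Or.inl (by rw [hg, Nat.div_one])))
    have hb := hA (q + 1) (Or.inr (Or.inr (by rw [hg, Nat.div_one])))
    have h3 : q % 3 ≠ 0 := fun e => by
      have : 3 ∣ 2 ^ n := hq ▸ Nat.dvd_of_mod_eq_zero e
      exact absurd (Nat.prime_three.dvd_of_dvd_pow this) (by norm_num)
    by_cases h3' : q % 3 = 1
    · have e := (two_pow_or_prime ha Nat.prime_three (by norm_num)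
        (Nat.dvd_of_mod_eq_zero (by omega))).1
      have h5 := two_pow_or_prime hb (q := 5) (by norm_num) (by norm_num)
        (Nat.dvd_of_mod_eq_zero (by omega))
      omega
    · have e := (two_pow_or_prime hb Nat.prime_three (by norm_num)
        (Nat.dvd_of_mod_eq_zero (by omega))).1
      omega
  · have hodd : q % 2 = 1 := by
      rw [hq]; exact Nat.odd_iff.1 (hp.odd_of_ne_two h2).pow
    have hg : Nat.gcd 2 (q - 1) = 2 := Nat.gcd_eq_left (Nat.dvd_of_mod_eq_zero (by omega))
    have ha := hA ((q - 1) / 2) (Or.inr (Or.inl (by rw [hg])))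
    have hb := hA ((q + 1) / 2) (Or.inr (Or.inr (by rw [hg])))
    by_cases h3 : p = 3
    · exfalso
      subst h3
      rcases Nat.even_or_odd' n with ⟨m, e | e⟩
      · subst e
        obtain ⟨k, hk⟩ : ∃ k, (q - 1) / 2 = 2 ^ k := by
          rcases ha with ha | ha | ⟨ha, -⟩
          · omega
          · exact ha
          · exfalso
            have h4' : q % 4 = 1 := by
              rw [hq, pow_mul, Nat.pow_mod]; norm_num
            have := (Nat.prime_dvd_prime_iff_eq Nat.prime_two ha).1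
              (Nat.dvd_of_mod_eq_zero (by omega))
            have h30 : q % 3 = 0 := by
              rw [hq]; exact Nat.mod_eq_zero_of_dvd (dvd_pow_self 3 hn.ne')
            omega
        have hq2 : q = 2 * 2 ^ k + 1 := by omega
        have hsq : (3 ^ m - 1) * (3 ^ m + 1) = 2 ^ (k + 1) := by
          have : q = (3 ^ m) * (3 ^ m) := by rw [hq, ← pow_add, two_mul]
          rw [mul_comm, ← Nat.sq_sub_sq, one_pow, pow_two, ← this, hq2, pow_succ]
          omega
        obtain ⟨i, -, hi⟩ := (Nat.dvd_prime_pow Nat.prime_two).1 (Dvd.intro _ hsq)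
        obtain ⟨j, -, hj⟩ := (Nat.dvd_prime_pow Nat.prime_two).1 (Dvd.intro_left _ hsq)
        have hm0 : 3 ^ 1 ≤ 3 ^ m := Nat.pow_le_pow_right (by norm_num) (by omega)
        have hi1 := pow_sub_two (i := i) (j := j) (by omega)
        subst hi1
        have h9 : q = 9 := by
          rw [hq, two_mul, pow_add, show 3 ^ m = 3 by omega]; norm_num
        have := two_pow_or_prime hb (q := 5) (by norm_num) (by norm_num) (by rw [h9])
        omega
      · subst e
        have h84 : q % 8 = 3 := by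
          rw [hq, pow_succ, pow_mul, Nat.mul_mod, Nat.pow_mod]; norm_num
        rcases hb with hb | ⟨k, hb⟩ | ⟨hb, -⟩
        · omega
        · rcases k with _ | _ | k
          · omega
          · omega
          · rw [pow_succ, pow_succ] at hb; omega
        · have := (Nat.prime_dvd_prime_iff_eq Nat.prime_two hb).1
            (Nat.dvd_of_mod_eq_zero (by omega))
          omega
    · have hq3 : q % 3 ≠ 0 := fun e => by
        have : 3 ∣ p ^ n := hq ▸ Nat.dvd_of_mod_eq_zero e
        exact h3 ((Nat.prime_dvd_prime_iff_eq Nat.prime_three hp).1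
          (Nat.prime_three.dvd_of_dvd_pow this)).symm
      by_cases h31 : q % 3 = 1
      · have := (two_pow_or_prime ha Nat.prime_three (by norm_num)
          (Nat.dvd_of_mod_eq_zero (by omega))).1
        omega
      · have := (two_pow_or_prime hb Nat.prime_three (by norm_num)
          (Nat.dvd_of_mod_eq_zero (by omega))).1
        have h5 : q = 5 := by omega
        exfalso
        exact hp5 ((Nat.prime_dvd_prime_iff_eq (by norm_num) hp).1
          (Nat.Prime.dvd_of_dvd_pow (m := p) (n := n) (show Nat.Prime 5 by norm_num)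
            (by rw [← hq, h5]))).symm

theorem card_psl_of_spec {L : Type u} [Group L] [Finite L] (hL : Spec L)
    (hns : ¬ Group.IsSolvable L) {F : Type} [Field F] [Fintype F]
    (e : L ≃* Matrix.ProjectiveSpecialLinearGroup (Fin 2) F) : Nat.card L = 168 := by
  have hS : Spec (Matrix.ProjectiveSpecialLinearGroup (Fin 2) F) :=
    hL.of_surjective e.toMonoidHom e.surjective
  have hq4 : 4 ≤ Fintype.card F := by
    have h1 : 1 < Fintype.card F := Fintype.one_lt_card
    by_contra hc
    apply hns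
    have hc' : Fintype.card F = 2 ∨ Fintype.card F = 3 := by omega
    rcases hc' with h | h
    · exact CfsgLib.Char.burnside_pq 2 3 Nat.prime_two Nat.prime_three 1 1 L (by
        rw [Nat.card_congr e.toEquiv, CfsgLib.Classical.card_psl_two_eq h 6 (by norm_num)]; rfl)
    · exact CfsgLib.Char.burnside_pq 2 3 Nat.prime_two Nat.prime_three 2 1 L (by
        rw [Nat.card_congr e.toEquiv, CfsgLib.Classical.card_psl_two_eq h 12 (by norm_num)]; rfl)
  obtain ⟨p, hchar⟩ := CharP.exists F
  obtain ⟨n, hp, hn⟩ := FiniteField.card F p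
  have := Fact.mk hp
  have hS2 := Cfsg.Agent.S2475.result (F := F) p hq4
  have hq : Fintype.card F = 7 := by
    refine psl_arith hp n.2 hn hq4 fun m hm => ?_
    have hmem : m ∈ Set.range (orderOf : Matrix.ProjectiveSpecialLinearGroup (Fin 2) F → ℕ) := by
      rw [hS2]
      rcases hm with rfl | rfl | rfl
      · exact Or.inl dvd_rfl
      · exact Or.inr (Or.inl dvd_rfl)
      · exact Or.inr (Or.inr dvd_rfl)
    obtain ⟨g, rfl⟩ := hmem
    by_cases hg : g = 1
    · exact Or.inl (by rw [hg, orderOf_one])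
    · exact Or.inr (hS g hg)
  rw [Nat.card_congr e.toEquiv, CfsgLib.Classical.card_psl_two_eq hq 168 (by norm_num)]

namespace Ctx

variable {G : Type u} [Group G] [Finite G]

/-- A point stabiliser transitive on the remaining points, with three point rigidity, gives 168. -/
theorem card_of_zassenhaus (h : Ctx G) {K : Subgroup G} (hK : K ≠ ⊤) {β₀ : G ⧸ K}
    (hβ : β₀ ≠ QuotientGroup.mk 1)
    (htrans : ∀ β : G ⧸ K, β ≠ QuotientGroup.mk 1 → ∃ k ∈ K, k • β₀ = β)
    (hthree : ∀ g ∈ K, g • β₀ = β₀ → g ≠ 1 → ∀ γ : G ⧸ K, g • γ = γ →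
      γ = QuotientGroup.mk 1 ∨ γ = β₀)
    (hnt : ∃ g ∈ K, g ≠ 1 ∧ g • β₀ = β₀) : Nat.card G = 168 := by
  have := h.simple
  set α : G ⧸ K := QuotientGroup.mk 1 with hα
  have hmove : ∀ a b : G ⧸ K, a ≠ b → ∃ g : G, g • a = α ∧ g • b = β₀ := by
    intro a b hab
    obtain ⟨a, rfl⟩ := QuotientGroup.mk_surjective a
    have h1 : a⁻¹ • (QuotientGroup.mk a : G ⧸ K) = α := by
      rw [MulAction.Quotient.smul_mk, smul_eq_mul, inv_mul_cancel]
    obtain ⟨k, hk, hkb⟩ := htrans (a⁻¹ • b) fun e => hab (by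
      have := congrArg (a • ·) e
      simp only [smul_inv_smul] at this
      rw [this, MulAction.Quotient.smul_mk, smul_eq_mul, mul_one])
    refine ⟨k⁻¹ * a⁻¹, ?_, ?_⟩
    · rw [mul_smul, h1, smul_base_iff]; exact inv_mem hk
    · rw [mul_smul, ← hkb, inv_smul_smul]
  have hfaith : FaithfulSMul G (G ⧸ K) := by
    refine faithfulSMul_iff.2 fun g hg => ?_
    have hmem : g ∈ K.normalCore := by
      rw [Subgroup.normalCore_eq_ker, MonoidHom.mem_ker]
      exact Equiv.ext fun x => hg x
    rcases (Subgroup.normalCore_normal K).eq_bot_or_eq_top with e | e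
    · rwa [e, Subgroup.mem_bot] at hmem
    · exact absurd (eq_top_iff.2 (e ▸ K.normalCore_le)) hK
  have hZ : Cfsg.IsZassenhausGroup G (G ⧸ K) := by
    refine ⟨hfaith, ?_, ?_, ?_, ?_⟩
    · rw [MulAction.is_two_pretransitive_iff]
      intro a b c d hab hcd
      obtain ⟨g, hga, hgb⟩ := hmove a b hab
      obtain ⟨g', hgc, hgd⟩ := hmove c d hcd
      exact ⟨g'⁻¹ * g, by rw [mul_smul, hga, ← hgc, inv_smul_smul],
        by rw [mul_smul, hgb, ← hgd, inv_smul_smul]⟩
    · intro g a b c hab hbc hac ha hb hc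
      by_contra hg1
      obtain ⟨m, hma, hmb⟩ := hmove a b hab
      have key : ∀ x : G ⧸ K, g • x = x → (m * g * m⁻¹) • (m • x) = m • x := fun x hx => by
        rw [mul_smul, mul_smul, inv_smul_smul, hx]
      have e1 := key a ha
      have e2 := key b hb
      rw [hma] at e1
      rw [hmb] at e2
      have hmK : m * g * m⁻¹ ∈ K := smul_base_iff.1 e1
      rcases hthree _ hmK e2 (fun e => hg1 (conj_eq_one_iff.1 e)) _ (key c hc) with e | e
      · exact hac (MulAction.injective m (hma.trans e.symm))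
      · exact hbc (MulAction.injective m (hmb.trans e.symm))
    · obtain ⟨g, hgK, hg1, hgβ⟩ := hnt
      exact ⟨g, hg1, α, β₀, hβ.symm, smul_base_iff.2 hgK, hgβ⟩
    · intro N hN htr
      refine ⟨α, fun hb => ?_⟩
      rcases hN.eq_bot_or_eq_top with e | e
      · subst e
        obtain ⟨g, hg⟩ := htr.exists_smul_eq α β₀
        rw [Subgroup.smul_def, Subgroup.mem_bot.1 g.2, one_smul] at hg
        exact hβ hg.symm
      · subst e
        obtain ⟨g, hgK, hg1, -⟩ := hnt
        have : (⟨g, Subgroup.mem_top g⟩ : (⊤ : Subgroup G)) = 1 :=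
          Subgroup.mem_bot.1 ((SetLike.ext_iff.1 hb ⟨g, Subgroup.mem_top g⟩).1 (smul_base_iff.2 hgK))
        exact hg1 (congrArg Subtype.val this)
  rcases Cfsg.Agent.S0340.result hZ with ⟨F, _, _, ⟨e⟩⟩ | ⟨-, m, -, hm⟩
  · exact card_psl_of_spec h.spec h.insol e
  · exfalso
    refine h.spec.not_five (hm ▸ Dvd.dvd.mul_right (Dvd.dvd.mul_left ?_ _) _)
    refine Nat.dvd_of_mod_eq_zero ?_
    rw [← pow_mul, Nat.add_mod, show (2 * m + 1) * 2 = 4 * m + 2 by ring, pow_add, pow_mul,
      Nat.mul_mod, Nat.pow_mod]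
    norm_num

end Ctx

end CfsgLib.Recog.EPPOSeven
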