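import Cfsg.Agent.Lib.Recog.EPPOSeven.StrongShape
import Cfsg.Agent.Lib.Recog.EPPOSeven.Zassenhaus

/-!
A strongly embedded subgroup: the group is a Zassenhaus group on its cosets.
-/

set_option autoImplicit false

namespace CfsgLib.Recog.EPPOSeven

open Subgroup MulAction

universe u

namespace Ctx

variable {G : Type u} [Group G] [Finite G]

/-- With a strongly embedded subgroup the order is 168. -/
theorem card_of_stronglyEmbedded (h : Ctx G) {K : Subgroup G} (hK : Cfsg.IsStronglyEmbedded K) :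
    Nat.card G = 168 := by
  classical
  obtain ⟨S⟩ := h.shape hK
  have := Fact.mk S.hp
  set α : G ⧸ K := QuotientGroup.mk 1 with hα
  have hI : ∀ β : G ⧸ K, β ≠ α → Nat.card {u : G // orderOf u = 2 ∧ u • α = β} = S.p :=
    fun β hβ => by rw [Cfsg.Agent.S1224.result K hK α β (Ne.symm hβ), S.card_invol]
  have hD : ∀ β : G ⧸ K, β ≠ α → Nat.card (twoPoint K β) = S.p := by
    intro β hβ
    obtain ⟨i, hi⟩ := S.hcard
    refine le_antisymm (Nat.le_of_dvd S.hp.pos ?_) (S.card_invol ▸ card_invol_le_twoPoint hK hβ)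
    refine Nat.Coprime.dvd_of_dvd_mul_left (n := S.p) (m := 2 ^ i)
      ((Nat.coprime_two_right.2 (odd_twoPoint hK hβ)).pow_right i) ?_
    rw [← hi]
    exact Subgroup.card_dvd_of_le inf_le_left
  have hx1 : S.x ≠ 1 := fun e => by
    have := S.hx
    rw [e, orderOf_one] at this
    exact S.hp.ne_one this.symm
  have hzeq : ∀ y : G, y ∈ Subgroup.zpowers S.x → orderOf y = S.p →
      Subgroup.zpowers y = Subgroup.zpowers S.x := fun y hy ho =>
    Subgroup.eq_of_le_of_card_ge (Subgroup.zpowers_le.2 hy)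
      (by rw [Nat.card_zpowers, Nat.card_zpowers, ho, S.hx])
  have hfix : ∀ β : G ⧸ K, β ≠ α → ∃ k ∈ K, k • β ≠ α ∧ S.x • (k • β) = k • β := by
    intro β hβ
    obtain ⟨⟨y, hy⟩, hyo⟩ := exists_prime_orderOf_dvd_card' (G := twoPoint K β) S.p
      (by rw [hD β hβ])
    rw [Subgroup.orderOf_mk] at hyo
    obtain ⟨k, hk, hky⟩ := S.conj_x y hy.1 hyo
    refine ⟨k, hk, fun e => hβ ?_, ?_⟩
    · have hk' : k • α = α := smul_base_iff.2 hk
      exact MulAction.injective k (e.trans hk'.symm)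
    have hx' : S.x ∈ Subgroup.zpowers (k * y * k⁻¹) := by
      rw [hzeq _ hky ((MulAut.conj k).orderOf_eq y |>.trans hyo)]
      exact Subgroup.mem_zpowers _
    have hstab : Subgroup.zpowers (k * y * k⁻¹) ≤ MulAction.stabilizer G (k • β) := by
      refine Subgroup.zpowers_le.2 ?_
      show (k * y * k⁻¹) • (k • β) = k • β
      rw [mul_smul, mul_smul, inv_smul_smul, show y • β = β from hy.2]
    exact hstab hx'
  obtain ⟨β₀, hβ₀, hxβ₀⟩ : ∃ β : G ⧸ K, β ≠ α ∧ S.x • β = β := by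
    obtain ⟨b, hb⟩ : ∃ b : G, b ∉ K := by
      by_contra hcon
      push Not at hcon
      exact hK.1 (eq_top_iff.2 fun g _ => hcon g)
    obtain ⟨k, -, h1, h2⟩ := hfix (QuotientGroup.mk b) fun e => hb (by
      rwa [hα, QuotientGroup.eq, mul_one, inv_mem_iff] at e)
    exact ⟨_, h1, h2⟩
  have hDeq : ∀ γ : G ⧸ K, γ ≠ α → S.x • γ = γ → twoPoint K γ = Subgroup.zpowers S.x := by
    intro γ hγ hxγ
    have hmem : S.x ∈ twoPoint K γ := ⟨S.xK, hxγ⟩
    refine (Subgroup.eq_of_le_of_card_ge (Subgroup.zpowers_le.2 hmem) ?_).symm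
    rw [hD γ hγ, Nat.card_zpowers, S.hx]
  -- involutions inverting `x`
  have hinvx : ∀ γ : G ⧸ K, γ ≠ α → S.x • γ = γ → ∀ u : G, orderOf u = 2 → u • α = γ →
      u * S.x * u⁻¹ = S.x⁻¹ := fun γ hγ hxγ u hu huγ =>
    h.spec.inverts hu (odd_twoPoint hK hγ) (swap_mem_normalizer hu huγ) _ ⟨S.xK, hxγ⟩
  obtain ⟨⟨u₀, hu₀, hu₀β⟩⟩ : Nonempty {u : G // orderOf u = 2 ∧ u • α = β₀} :=
    (Nat.card_pos_iff.1 (by rw [hI β₀ hβ₀]; exact S.hp.pos)).1
  have hu₀x : u₀ * S.x * u₀⁻¹ = S.x⁻¹ := hinvx β₀ hβ₀ hxβ₀ u₀ hu₀ hu₀β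
  set F' := {γ : G ⧸ K // γ ≠ α ∧ S.x • γ = γ}
  have := Fintype.ofFinite F'
  set C := Subgroup.centralizer ({S.x} : Set G)
  have hC1 : Nat.card F' * S.p ≤ Nat.card C := by
    have hcard : Nat.card (Σ γ : F', {u : G // orderOf u = 2 ∧ u • α = γ.1}) = Nat.card F' * S.p := by
      rw [Nat.card_sigma, Finset.sum_congr rfl (fun γ _ => hI γ.1 γ.2.1), Finset.sum_const,
        Finset.card_univ, smul_eq_mul, Nat.card_eq_fintype_card]
    rw [← hcard]
    refine Nat.card_le_card_of_injective (fun q => ⟨u₀ * q.2.1, ?_⟩) ?_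
    · refine mem_centralizer_of_commute ?_
      have hq := hinvx q.1.1 q.1.2.1 q.1.2.2 q.2.1 q.2.2.1 q.2.2.2
      show u₀ * q.2.1 * S.x = S.x * (u₀ * q.2.1)
      calc u₀ * q.2.1 * S.x = u₀ * (q.2.1 * S.x * q.2.1⁻¹) * u₀⁻¹ * (u₀ * q.2.1) := by group
        _ = S.x * (u₀ * q.2.1) := by
          rw [hq, show u₀ * S.x⁻¹ * u₀⁻¹ = (u₀ * S.x * u₀⁻¹)⁻¹ by group, hu₀x, inv_inv]
    · rintro ⟨γ, u, hu, huγ⟩ ⟨γ', u', hu', huγ'⟩ e
      have e' : u = u' := mul_left_cancel (congrArg Subtype.val e)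
      subst e'
      have : γ = γ' := Subtype.ext (huγ.symm.trans huγ')
      subst this
      rfl
  have hu₀C : u₀ ∉ C := fun hc => by
    rw [(show Commute u₀ S.x from Subgroup.mem_centralizer_singleton_iff.1 hc).eq,
      mul_inv_cancel_right] at hu₀x
    have : orderOf S.x ∣ 2 := orderOf_dvd_of_pow_eq_one (by
      rw [pow_two]; nth_rw 1 [hu₀x]; exact inv_mul_cancel _)
    rw [S.hx] at this
    exact S.hp2 ((Nat.prime_dvd_prime_iff_eq S.hp Nat.prime_two).1 this)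
  set N := {g : G // g * S.x * g⁻¹ ∈ Subgroup.zpowers S.x}
  have hN2 : 2 * Nat.card C ≤ Nat.card N := by
    have hCN : ∀ c : C, (c : G) * S.x * (c : G)⁻¹ = S.x := fun c => by
      rw [Subgroup.mem_centralizer_singleton_iff.1 c.2, mul_inv_cancel_right]
    refine le_trans (le_of_eq (?_ : _ = Nat.card (C ⊕ C))) (Nat.card_le_card_of_injective
      (Sum.elim (fun c => (⟨c, by rw [hCN]; exact Subgroup.mem_zpowers _⟩ : N))
        (fun c => ⟨u₀ * c, ?_⟩)) ?_)
    · rw [Nat.card_sum, two_mul]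
    · rw [show u₀ * (c : G) * S.x * (u₀ * c)⁻¹ = u₀ * ((c : G) * S.x * (c : G)⁻¹) * u₀⁻¹ by group,
        hCN, hu₀x]
      exact inv_mem (Subgroup.mem_zpowers _)
    · rintro (c | c) (c' | c') e <;> have e' := congrArg Subtype.val e <;> simp at e'
      · rw [e']
      · exact absurd (by
          have : u₀ = (c : G) * (c' : G)⁻¹ := by rw [e', mul_inv_cancel_right]
          rw [this]; exact mul_mem c.2 (inv_mem c'.2)) hu₀C
      · exact absurd (by
          have : u₀ = (c' : G) * (c : G)⁻¹ := by rw [← e', mul_inv_cancel_right]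
          rw [this]; exact mul_mem c'.2 (inv_mem c.2)) hu₀C
      · rw [e']
  have hNF : Nat.card N ≤ Nat.card (Option F') * S.p := by
    have hto : ∀ g : N, g.1 • α ≠ α → S.x • (g.1 • α) = g.1 • α := by
      intro g _
      obtain ⟨n, hn⟩ := Subgroup.mem_zpowers_iff.1 g.2
      have hxn : (g.1 * S.x * g.1⁻¹) • (g.1 • α) = g.1 • α := by
        rw [mul_smul, mul_smul, inv_smul_smul, smul_base_iff.2 S.xK]
      have hx' : S.x ∈ Subgroup.zpowers (g.1 * S.x * g.1⁻¹) := by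
        rw [hzeq _ g.2 (((MulAut.conj g.1).orderOf_eq S.x).trans S.hx)]
        exact Subgroup.mem_zpowers _
      exact (Subgroup.zpowers_le.2 (show _ ∈ MulAction.stabilizer G (g.1 • α) from hxn)) hx'
    let f : N → Option F' := fun g =>
      if hg : g.1 • α = α then none else some ⟨g.1 • α, hg, hto g hg⟩
    have hf : ∀ g g' : N, f g = f g' → g.1 • α = g'.1 • α := by
      intro g g' e
      by_cases hg : g.1 • α = α <;> by_cases hg' : g'.1 • α = α <;> simp [f, hg, hg'] at e ⊢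
      exact congrArg Subtype.val e
    choose r hr using fun o : {o : Option F' // ∃ g, f g = o} => o.2
    rw [show S.p = Nat.card (Subgroup.zpowers S.x) by rw [Nat.card_zpowers, S.hx], ← Nat.card_prod]
    refine Nat.card_le_card_of_injective (fun g => (f g, ⟨(r ⟨f g, g, rfl⟩).1⁻¹ * g.1, ?_⟩)) ?_
    · set g₀ := r ⟨f g, g, rfl⟩
      have hK' : g₀.1⁻¹ * g.1 ∈ K := by
        rw [← smul_base_iff, mul_smul, ← hf g₀ g (hr _), inv_smul_smul]
      refine S.norm_x _ hK' ?_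
      obtain ⟨n, hn⟩ := Subgroup.mem_zpowers_iff.1 g.2
      have hz := hzeq _ g₀.2 (((MulAut.conj g₀.1).orderOf_eq S.x).trans S.hx)
      have hmem : g.1 * S.x * g.1⁻¹ ∈ Subgroup.zpowers (g₀.1 * S.x * g₀.1⁻¹) := hz.symm ▸ g.2
      obtain ⟨m, hm⟩ := Subgroup.mem_zpowers_iff.1 hmem
      refine ⟨m, ?_⟩
      show S.x ^ m = _
      rw [show g₀.1⁻¹ * g.1 * S.x * (g₀.1⁻¹ * g.1)⁻¹ = g₀.1⁻¹ * (g.1 * S.x * g.1⁻¹) * g₀.1 by group,
        ← hm, conj_zpow]
      group
    · intro g g' e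
      obtain ⟨e1, e2⟩ := Prod.ext_iff.1 e
      simp only at e1 e2
      have e3 := congrArg Subtype.val e2
      simp only [e1] at e3
      exact Subtype.ext (mul_left_cancel e3)
  have hF1 : Nat.card F' ≤ 1 := by
    rw [Finite.card_option] at hNF
    have := S.hp.pos
    nlinarith
  have honly : ∀ γ : G ⧸ K, γ ≠ α → S.x • γ = γ → γ = β₀ := fun γ h1 h2 =>
    congrArg Subtype.val ((Finite.card_le_one_iff_subsingleton.1 hF1).elim
      (⟨γ, h1, h2⟩ : F') ⟨β₀, hβ₀, hxβ₀⟩)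
  refine h.card_of_zassenhaus hK.1 hβ₀ (fun β hβ => ?_) (fun g hgK hgβ hg1 γ hgγ => ?_)
    ⟨S.x, S.xK, hx1, hxβ₀⟩
  · obtain ⟨k, hk, h1, h2⟩ := hfix β hβ
    exact ⟨k⁻¹, inv_mem hk, by rw [← honly _ h1 h2, inv_smul_smul]⟩
  · by_cases hγ : γ = α
    · exact Or.inl hγ
    refine Or.inr (honly γ hγ ?_)
    have hg : g ∈ Subgroup.zpowers S.x := hDeq β₀ hβ₀ hxβ₀ ▸ ⟨hgK, hgβ⟩
    have hgo : orderOf g = S.p := by
      have hd : orderOf g ∣ S.p := by
        have := orderOf_dvd_natCard (⟨g, hg⟩ : Subgroup.zpowers S.x)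
        rwa [Nat.card_zpowers, S.hx, Subgroup.orderOf_mk] at this
      exact ((Nat.dvd_prime S.hp).1 hd).resolve_left fun e => hg1 (orderOf_eq_one_iff.1 e)
    have hx' : S.x ∈ Subgroup.zpowers g := by rw [hzeq g hg hgo]; exact Subgroup.mem_zpowers _
    exact (Subgroup.zpowers_le.2 (show g ∈ MulAction.stabilizer G γ from hgγ)) hx'

end Ctx

end CfsgLib.Recog.EPPOSeven
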