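import Cfsg.Agent.Lib.Recog.EPPOSeven.MaxClass
import Cfsg.Agent.Lib.Recog.EPOFive.TwoS4
import Cfsg.Agent.Lib.Recog.EPPOSeven.StrongSolvable
import Cfsg.Agent.S0518
import Cfsg.Agent.S0848

/-!
The simple case.
-/

set_option autoImplicit false

namespace CfsgLib.Recog.EPPOSeven

open Subgroup

universe u

/-- The embedding of the dihedral group of order eight in the symmetric group of degree four. -/
def dihFun : DihedralGroup 4 → Equiv.Perm (Fin 4)
  | .r i => EPOFive.Sym4.r4 ^ i.val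
  | .sr i => EPOFive.Sym4.s4 * EPOFive.Sym4.r4 ^ i.val

theorem dihFun_mul : ∀ a b : DihedralGroup 4, dihFun (a * b) = dihFun a * dihFun b := by decide +kernel

theorem dihFun_inj : ∀ a b : DihedralGroup 4, dihFun a = dihFun b → a = b := by decide +kernel

theorem dihFun_cen : ∀ a : DihedralGroup 4,
    dihFun a * EPOFive.Sym4.r4 ^ 2 = EPOFive.Sym4.r4 ^ 2 * dihFun a := by decide +kernel

theorem cen_four : ∀ q : Equiv.Perm (Fin 4), q * EPOFive.Sym4.r4 ^ 2 = EPOFive.Sym4.r4 ^ 2 * q →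
    q * (EPOFive.Sym4.s4 * EPOFive.Sym4.r4) = (EPOFive.Sym4.s4 * EPOFive.Sym4.r4) * q →
    q = 1 ∨ q = EPOFive.Sym4.r4 ^ 2 ∨ q = EPOFive.Sym4.s4 * EPOFive.Sym4.r4 ∨
      q = (EPOFive.Sym4.s4 * EPOFive.Sym4.r4) * EPOFive.Sym4.r4 ^ 2 := by decide +kernel

theorem v4_gen : ∀ a ∈ EPOFive.Sym4.v4, a = 1 ∨ a = EPOFive.Sym4.r4 ^ 2 ∨
    a = EPOFive.Sym4.s4 * EPOFive.Sym4.r4 ∨
    a = (EPOFive.Sym4.s4 * EPOFive.Sym4.r4) * EPOFive.Sym4.r4 ^ 2 := by decide +kernel

theorem four_facts :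
    (EPOFive.Sym4.s4 * EPOFive.Sym4.r4) ^ 2 = 1 ∧ EPOFive.Sym4.s4 * EPOFive.Sym4.r4 ≠ 1 ∧
      EPOFive.Sym4.s4 * EPOFive.Sym4.r4 ≠ EPOFive.Sym4.r4 ^ 2 ∧
      (EPOFive.Sym4.s4 * EPOFive.Sym4.r4) * EPOFive.Sym4.r4 ^ 2 =
        EPOFive.Sym4.r4 ^ 2 * (EPOFive.Sym4.s4 * EPOFive.Sym4.r4) ∧
      (EPOFive.Sym4.s4 * EPOFive.Sym4.r4) * EPOFive.Sym4.r4 ≠
        EPOFive.Sym4.r4 * (EPOFive.Sym4.s4 * EPOFive.Sym4.r4) ∧
      (EPOFive.Sym4.r4 ^ 2) ^ 2 = 1 := by decide +kernel

namespace Ctx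

variable {G : Type u} [Group G] [Finite G]

open EPOFive.Sym4 in
theorem card_of_maximal_S4 (h : Ctx G) {M : Subgroup G} (hM : Cfsg.IsMaximalTwoLocal M)
    (e : M ≃* Equiv.Perm (Fin 4)) : Nat.card G = 168 := by
  classical
  have : Fact (Nat.Prime 2) := ⟨Nat.prime_two⟩
  obtain ⟨-, f2, -, -, -, -⟩ := EPOFive.Sym4.facts
  obtain ⟨k1, k2, k3, k4, k5, k6⟩ := four_facts
  let φ : Equiv.Perm (Fin 4) →* G := M.subtype.comp e.symm.toMonoidHom
  have hφ : Function.Injective φ := M.subtype_injective.comp e.symm.injective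
  have hback : ∀ g ∈ M, ∃ q, φ q = g := fun g hg => ⟨e ⟨g, hg⟩, by simp [φ]⟩
  set z := φ (r4 ^ 2) with hzdef
  set s := φ (s4 * r4) with hsdef
  have hz : orderOf z = 2 := by
    rw [orderOf_injective φ hφ]; exact orderOf_eq_prime k6 f2
  have hs : orderOf s = 2 := by
    rw [orderOf_injective φ hφ]; exact orderOf_eq_prime k1 k2
  let V : Subgroup G :=
    { carrier := {g | ∃ q ∈ v4, φ q = g}
      one_mem' := ⟨1, by simp [v4], map_one φ⟩
      mul_mem' := by
        rintro _ _ ⟨a, ha, rfl⟩ ⟨b, hb, rfl⟩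
        exact ⟨a * b, v4_mul a ha b hb, map_mul φ a b⟩
      inv_mem' := by
        rintro _ ⟨a, ha, rfl⟩
        exact ⟨a, ha, by rw [← map_inv, inv_eq_of_mul_eq_one_left (v4_sq a ha)]⟩ }
  have hV : M = Subgroup.normalizer (V : Set G) := by
    refine (hM.2 _ ⟨V, ?_, ?_, rfl⟩ fun g hg => ?_).symm
    · rintro ⟨g, q, hq, rfl⟩
      refine ⟨1, Subtype.ext ?_⟩
      show φ q ^ 2 ^ 1 = 1
      rw [pow_one, pow_two, ← map_mul, v4_sq q hq, map_one]
    · intro hb
      have : φ (r4 ^ 2) ∈ V := ⟨_, v4_mem.1, rfl⟩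
      rw [hb, Subgroup.mem_bot] at this
      exact f2 (hφ (this.trans (map_one φ).symm))
    · obtain ⟨p, rfl⟩ := hback g hg
      refine Subgroup.mem_normalizer_iff.2 fun x => ⟨?_, ?_⟩
      · rintro ⟨q, hq, rfl⟩
        exact ⟨p * q * p⁻¹, v4_conj p q hq, by simp⟩
      · rintro ⟨q, hq, hqx⟩
        refine ⟨p⁻¹ * q * p⁻¹⁻¹, v4_conj p⁻¹ q hq, ?_⟩
        rw [map_mul, map_mul, map_inv, hqx, map_inv, map_inv, inv_inv]
        group
  have hCV : ∀ g : G, Commute g z → Commute g s → g = 1 ∨ g = z ∨ g = s ∨ g = s * z := by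
    intro g hgz hgs
    have hgM : g ∈ M := by
      rw [hV]
      refine Subgroup.mem_normalizer_fintype fun x hx => ?_
      obtain ⟨q, hq, rfl⟩ := hx
      refine ⟨q, hq, ?_⟩
      have hc : Commute g (φ q) := by
        rcases v4_gen q hq with e | e | e | e <;> subst e
        · rw [map_one]; exact Commute.one_right g
        · exact hgz
        · exact hgs
        · rw [map_mul]; exact hgs.mul_right hgz
      rw [hc.eq, mul_inv_cancel_right]
    obtain ⟨q, rfl⟩ := hback g hgM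
    have h1 : q * r4 ^ 2 = r4 ^ 2 * q := hφ (by rw [map_mul, map_mul]; exact hgz.eq)
    have h2 : q * (s4 * r4) = (s4 * r4) * q := hφ (by
      rw [map_mul φ q, map_mul φ (s4 * r4) q]; exact hgs.eq)
    rcases cen_four q h1 h2 with e | e | e | e <;> subst e
    · exact Or.inl (map_one φ)
    · exact Or.inr (Or.inl rfl)
    · exact Or.inr (Or.inr (Or.inl rfl))
    · exact Or.inr (Or.inr (Or.inr (by rw [map_mul])))
  let F : DihedralGroup 4 →* G := φ.comp (MonoidHom.mk' dihFun dihFun_mul)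
  have hFinj : Function.Injective F := hφ.comp fun a b => dihFun_inj a b
  have hFle : F.range ≤ Subgroup.centralizer ({z} : Set G) := by
    rintro _ ⟨d, rfl⟩
    refine mem_centralizer_of_commute ?_
    show φ (dihFun d) * φ (r4 ^ 2) = φ (r4 ^ 2) * φ (dihFun d)
    rw [← map_mul, ← map_mul, dihFun_cen d]
  by_cases hbig : 8 < Nat.card (Subgroup.centralizer ({z} : Set G))
  · refine h.card_of_maxClass hz hs ((show Commute (s4 * r4) (r4 ^ 2) from k4).map φ)
      (fun e => k3 (hφ e)) (r := φ r4) ((Commute.self_pow r4 2).map φ) (fun hc => k5 (hφ ?_)) hCV hbig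
    rw [map_mul φ _ r4, map_mul φ r4]; exact hc.eq
  · have hFc : Nat.card F.range = 8 := by
      rw [← Nat.card_congr (MonoidHom.ofInjective hFinj).toEquiv, DihedralGroup.nat_card]
    have heq : F.range = Subgroup.centralizer ({z} : Set G) :=
      Subgroup.eq_of_le_of_card_ge hFle (by rw [hFc]; omega)
    have e' := ((MonoidHom.ofInjective hFinj).trans (MulEquiv.subgroupCongr heq)).symm
    rcases Cfsg.Agent.S0848.result h.perfect z hz e' with hcard | hcard
    · exact hcard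
    · exact absurd (by rw [hcard]; norm_num) h.spec.not_five

/-- The simple case. -/
theorem card_eq (h : Ctx G) : Nat.card G = 168 := by
  set H := Subgroup.closure {g : G | Odd (orderOf g)} with hHdef
  rcases Cfsg.Agent.S0518.result h.charTwo h.pCore_two
      (fun N ⟨T, hT, hT1, hN⟩ => hN ▸ h.twoLocal_solvable hT hT1) h.sylow_centralizer
      H hHdef with ⟨K, hK⟩ | ⟨M, -, -, hM, -, ⟨e⟩, -, -⟩
  · exact h.card_of_stronglyEmbedded hK
  · have hH : H = ⊤ := h.odd_closure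
    let E : H ≃* G := MulEquiv.ofBijective H.subtype
      ⟨H.subtype_injective, fun g => ⟨⟨g, hH ▸ Subgroup.mem_top g⟩, rfl⟩⟩
    have hnm : ∀ T : Subgroup H, (Subgroup.normalizer (T : Set H)).map E.toMonoidHom =
        Subgroup.normalizer (T.map E.toMonoidHom : Set G) := fun T => by
      ext x
      rw [Subgroup.mem_map_equiv, Subgroup.mem_normalizer_iff, Subgroup.mem_normalizer_iff]
      constructor
      · intro hx y
        rw [Subgroup.mem_map_equiv, Subgroup.mem_map_equiv, hx (E.symm y)]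
        simp [map_mul]
      · intro hx y
        have := hx (E y)
        rw [Subgroup.mem_map_equiv, Subgroup.mem_map_equiv] at this
        simpa [map_mul] using this
    refine h.card_of_maximal_S4 (M := M.map E.toMonoidHom) ⟨?_, ?_⟩
      ((Subgroup.equivMapOfInjective M _ E.injective).symm.trans e)
    · obtain ⟨⟨T, hT, hT1, hMT⟩, -⟩ := hM
      refine ⟨T.map E.toMonoidHom, hT.map _, ?_, by rw [hMT, hnm]⟩
      rwa [Ne, Subgroup.map_eq_bot_iff_of_injective (f := E.toMonoidHom) _ E.injective]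
    · rintro N ⟨T, hT, hT1, rfl⟩ hle
      set T' := T.map E.symm.toMonoidHom with hT'
      have hTeq : T'.map E.toMonoidHom = T := by
        rw [hT', Subgroup.map_map]; convert Subgroup.map_id T; ext x; simp
      have hN' : Subgroup.normalizer (T' : Set H) = M := by
        refine hM.2 _ ⟨T', hT.map _, ?_, rfl⟩ ?_
        · rwa [Ne, Subgroup.map_eq_bot_iff_of_injective (f := E.symm.toMonoidHom) _ E.symm.injective]
        · rw [← Subgroup.map_le_map_iff_of_injective (f := E.toMonoidHom) E.injective, hnm, hTeq]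
          exact hle
      rw [← hN', hnm, hTeq]

end Ctx

end CfsgLib.Recog.EPPOSeven
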